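import Cfsg.Agent.Lib.MTwentyThreeUnique.FromOrder.Collapse
import Mathlib

/-!
The local data of a simple group of order 10200960 from the facts at 11 and 23.
-/

set_option autoImplicit false
set_option linter.style.haveILetI false

noncomputable section

namespace CfsgLib.MTwentyThreeUnique.FromOrder

open Subgroup CfsgLib.SmallGroups Cfsg
open CfsgLib.MTwentyTwoUnique.FromOrder (exists_sylow_zpowers)

/-- The facts at 11 and 23 give all the local data. -/
theorem local_of_top {G : Type*} [Group G] [Finite G] (hT : Top G) : CfsgLib.MTwentyThreeUnique.Local G := by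
  haveI := Fintype.ofFinite G
  haveI : Fact (Nat.Prime 5) := ⟨by norm_num⟩
  haveI : Fact (Nat.Prime 7) := ⟨by norm_num⟩
  obtain ⟨h7, h5⟩ := small_primes hT
  refine ⟨hT.card, hT.simple, hT.twentyThree, hT.eleven, fun x hx => ?_, fun x hx => ?_⟩
  · obtain ⟨P, hPx, hcx⟩ := exists_sylow_zpowers (show Nat.card G = 7 * 1457280 by rw [hT.card])
      (by norm_num) hx
    rw [hcx, ← hPx, (h7 P).1, (h7 P).2]
    exact ⟨rfl, rfl⟩
  · obtain ⟨P, hPx, hcx⟩ := exists_sylow_zpowers (show Nat.card G = 5 * 2040192 by rw [hT.card])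
      (by norm_num) hx
    rw [hcx, ← hPx, (h5 P).1, (h5 P).2]
    exact ⟨rfl, rfl⟩

end CfsgLib.MTwentyThreeUnique.FromOrder
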