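import Cfsg.Agent.Lib.MTwentyThreeUnique.FromOrder.Setting
import Cfsg.Agent.Lib.SmallSimple.Degree6000.Orders
import Cfsg.Agent.Lib.SmallGroups.SylowLocal
import Mathlib

/-!
The orders of involution centralisers containing a Sylow subgroup of prime order, and the groups of
order dividing `9856`.
-/

set_option autoImplicit false
set_option linter.style.haveILetI false
set_option linter.unusedSectionVars false

noncomputable section

namespace CfsgLib.MTwentyThreeUnique.FromOrder

open Subgroup CfsgLib.SmallGroups Cfsg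
open CfsgLib.MTwentyTwoUnique.FromOrder (sylow_le_centralizer)

universe w

variable {G : Type w} [Group G] [Fintype G]

/-- The order of the centraliser of an involution centralising `P`. -/
theorem cent_shape {p : ℕ} [hp : Fact p.Prime] (P : Sylow p G) (hP : Nat.card (P : Subgroup G) = p)
    (hp2 : p ≠ 2) {m R : ℕ} (hnG : Nat.card G = p * m) (hm : ¬ p ∣ m)
    (hN : Nat.card (normalizer ((P : Subgroup G) : Set G)) = p * R) {t : G} (hto : orderOf t = 2)
    (htC : t ∈ centralizer ((P : Subgroup G) : Set G)) :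
    ∃ n x : ℕ, Nat.card (centralizer ({t} : Set G)) = p * n * x ∧ n % p = 1 ∧ n ∣ m ∧ x ∣ R ∧ 2 ∣ x ∧
      n = Nat.card (Sylow p (centralizer ({t} : Set G))) := by
  set H := centralizer ({t} : Set G) with hH
  have hPH : (P : Subgroup G) ≤ H := sylow_le_centralizer P htC
  set n := Nat.card (Sylow p H) with hn
  set D := normalizer ((P : Subgroup G) : Set G) ⊓ H with hD
  have h1 : Nat.card H = n * Nat.card D := SylowLocal.card_eq_mul_inf P hPH
  have hPD : p ∣ Nat.card D := hP ▸ card_dvd_of_le (le_inf le_normalizer hPH)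
  have h2D : 2 ∣ Nat.card D := hto ▸ Subgroup.orderOf_dvd_natCard _
    ⟨centralizer_le_normalizer _ htC, mem_centralizer_singleton_iff.2 rfl⟩
  obtain ⟨x, hx⟩ := hPD
  have hxR : x ∣ R := Nat.dvd_of_mul_dvd_mul_left hp.out.pos (hx ▸ hN ▸ card_dvd_of_le inf_le_left)
  have h2x : 2 ∣ x := ((Nat.coprime_primes Nat.prime_two hp.out).2 (Ne.symm hp2)).dvd_of_dvd_mul_left (hx ▸ h2D)
  have hnm : n % p = 1 := by
    have h := card_sylow_modEq_one p H
    rw [Nat.ModEq, Nat.mod_eq_of_lt hp.out.one_lt] at h
    exact h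
  have hC : Nat.card H = p * n * x := by rw [h1, hx]; ring
  refine ⟨n, x, hC, hnm, ?_, hxR, h2x, rfl⟩
  refine Nat.Coprime.dvd_of_dvd_mul_left ?_ (show n ∣ p * m from
    (Dvd.intro _ h1.symm : n ∣ Nat.card H).trans (hnG ▸ card_subgroup_dvd_card H))
  exact ((hp.out.coprime_iff_not_dvd).2 fun h => by rw [Nat.mod_eq_zero_of_dvd h] at hnm; omega).symm

/-- A centraliser of an involution of order dividing `9856` has a normal Sylow 11-subgroup. -/
theorem card_sylow_eleven_of_dvd [Fact (Nat.Prime 11)] {t : G} (hto : orderOf t = 2)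
    (h11 : 11 ∣ Nat.card (centralizer ({t} : Set G))) (hd : Nat.card (centralizer ({t} : Set G)) ∣ 9856) :
    Nat.card (Sylow 11 (centralizer ({t} : Set G))) = 1 := by
  haveI : Fact (Nat.Prime 2) := ⟨Nat.prime_two⟩
  set H := centralizer ({t} : Set G) with hH
  have hord : ∀ (X : Type w) [Group X] [Finite X] [IsSimpleGroup X], ¬ IsMulCommutative X →
      Nat.card X ∣ 9856 → 11 ∣ Nat.card X → Nat.card X = 9856 := by
    intro X _ _ _ hX hdX _
    have hk : ∀ k ∈ (9856 : ℕ).divisors, k ≠ 9856 → k < 6000 ∧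
        k ∉ [60, 168, 360, 504, 660, 1092, 2448, 2520, 3420, 4080, 5616] := by decide +kernel
    by_contra hne
    obtain ⟨h1, h2⟩ := hk _ (Nat.mem_divisors.2 ⟨hdX, by norm_num⟩) hne
    exact h2 (CfsgLib.SmallSimple.Degree6000.card_cases hX h1)
  have hns : Nat.card H = 9856 → ¬ IsSimpleGroup H := by
    intro h hs
    let w : H := ⟨t, mem_centralizer_singleton_iff.2 rfl⟩
    have hwc : zpowers w ≤ center H := zpowers_le.2 (mem_center_iff.2 fun y =>
      Subtype.ext (mem_centralizer_singleton_iff.1 y.2))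
    haveI : (zpowers w).Normal := ⟨fun a ha g => by
      rwa [mem_center_iff.1 (hwc ha) g, mul_inv_cancel_right]⟩
    have hw : orderOf w = 2 := by rw [← Subgroup.orderOf_coe]; exact hto
    rcases hs.eq_bot_or_eq_top_of_normal (zpowers w) inferInstance with e | e
    · have := congrArg (fun S : Subgroup H => Nat.card S) e
      simp only [Nat.card_zpowers, hw, card_bot] at this
      omega
    · have := congrArg (fun S : Subgroup H => Nat.card S) e
      simp only [Nat.card_zpowers, hw, card_top, h] at this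
      omega
  obtain ⟨Q, hQn, hQ⟩ := CfsgLib.SmallSimple.Degree6000.normal_prime_of_orders (p := 11) (n := 9856)
    (by norm_num) (by norm_num) (by decide +kernel) hord (Nat.card H) H rfl hd h11 hns
  have h2 : ¬ 11 ^ (1 + 1) ∣ Nat.card H := fun h => absurd (h.trans hd) (by norm_num)
  let Qs : Sylow 11 H := Sylow.ofCard Q (by
    rw [hQ]
    have a1 := (Nat.Prime.pow_dvd_iff_le_factorization (by norm_num : Nat.Prime 11) Nat.card_pos.ne').1
      ((pow_one 11).symm ▸ h11)
    have a2 := mt (Nat.Prime.pow_dvd_iff_le_factorization (by norm_num : Nat.Prime 11) Nat.card_pos.ne').2 h2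
    rw [show (Nat.card H).factorization 11 = 1 by omega, pow_one])
  haveI : (Qs : Subgroup H).Normal := hQn
  haveI := Sylow.unique_of_normal Qs hQn
  exact Nat.card_unique

end CfsgLib.MTwentyThreeUnique.FromOrder
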