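import Cfsg.Agent.Lib.MTwentyThreeUnique.FromOrder.OneClass
import Cfsg.Agent.Lib.Invol.ZStarFinal
import Cfsg.Agent.Lib.JThreeType.SelfCent
import Cfsg.Agent.Lib.Solvable.UniqueSubgroup
import Mathlib

/-!
A simple group of order 10200960: no Sylow 7-subgroup commutes with a group of order 16.
-/

set_option autoImplicit false
set_option linter.style.haveILetI false
set_option linter.unusedSectionVars false

noncomputable section

open scoped Classical

namespace CfsgLib.MTwentyThreeUnique.FromOrder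

open Equiv Subgroup CfsgLib.InvolChar CfsgLib.SmallGroups CfsgLib.SmallSimple CfsgLib.Blocks.PrimeSylow Cfsg
open CfsgLib.MTwentyTwoUnique.FromOrder (reg mem_reg relIndex_and_reg exists_central_in exists_mul_mem_normalizer
  sylow_le_centralizer)

section

variable {G : Type*} [Group G] [Finite G]

/-- An even permutation of 8 points of order a power of two has order dividing four. -/
theorem perm_pow_four {Ω : Type*} [Fintype Ω] [DecidableEq Ω] (h8 : Fintype.card Ω = 8) {σ : Perm Ω} {i : ℕ}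
    (hσ : σ ^ 2 ^ i = 1) (hs : Perm.sign σ = 1) : σ ^ 4 = 1 := by
  rw [← orderOf_dvd_iff_pow_eq_one, ← Perm.lcm_cycleType, Multiset.lcm_dvd]
  intro n hn
  have h1 : n ∣ 2 ^ i := (Perm.dvd_of_mem_cycleType hn).trans (orderOf_dvd_of_pow_eq_one hσ)
  have h2 := Perm.le_card_support_of_mem_cycleType hn
  have h3 : n ≤ 8 := h8 ▸ h2.trans (Finset.card_le_univ _)
  obtain ⟨j, -, rfl⟩ := (Nat.dvd_prime_pow Nat.prime_two).1 h1
  have hj : j ≤ 3 := by
    by_contra h
    have : 2 ^ 4 ≤ 2 ^ j := Nat.pow_le_pow_right two_pos (by omega)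
    omega
  rcases Nat.lt_or_ge j 3 with h | h
  · exact (Nat.pow_dvd_pow 2 (by omega : j ≤ 2))
  exfalso
  obtain rfl : j = 3 := by omega
  obtain ⟨R, hR⟩ := Multiset.exists_cons_of_mem hn
  have hsum : σ.cycleType.sum ≤ 8 := by
    rw [Perm.sum_cycleType]; exact h8 ▸ Finset.card_le_univ _
  rw [hR, Multiset.sum_cons] at hsum
  have hR0 : R = 0 := Multiset.eq_zero_of_forall_notMem fun m hm => by
    have h2 := Perm.two_le_of_mem_cycleType (σ := σ) (hR ▸ Multiset.mem_cons_of_mem hm)
    have h3 := Multiset.single_le_sum (fun x _ => Nat.zero_le x) m hm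
    omega
  rw [Perm.sign_of_cycleType, hR, hR0] at hs
  revert hs
  decide

/-- A unique involution in a group of order 16 forces an element of order at least 8 with small centraliser. -/
theorem exists_large {K : Subgroup G} (hK : Nat.card K = 16)
    (hu : ∀ x y : G, x ∈ K → y ∈ K → orderOf x = 2 → orderOf y = 2 → x = y) :
    ∃ k ∈ K, 8 ≤ orderOf k ∧ ∀ y ∈ K, Commute y k → y ∈ zpowers k := by
  haveI : Fact (Nat.Prime 2) := ⟨Nat.prime_two⟩
  rcases CfsgLib.Solvable.isCyclic_or_quaternion (IsPGroup.of_card (n := 4) (by rw [hK]; norm_num) : IsPGroup 2 K)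
    (fun x y hx hy => by
      rw [Subtype.ext (hu x y x.2 y.2 (by rwa [Subgroup.orderOf_coe]) (by rwa [Subgroup.orderOf_coe]))]
      exact mem_zpowers y) with h | ⟨-, n, ⟨e⟩⟩
  · obtain ⟨k, hk⟩ := h.exists_generator
    refine ⟨k, k.2, ?_, fun y hy _ => ?_⟩
    · rw [Subgroup.orderOf_coe, orderOf_eq_card_of_forall_mem_zpowers hk, hK]
      norm_num
    · obtain ⟨i, hi⟩ := hk ⟨y, hy⟩
      exact ⟨i, congrArg Subtype.val hi⟩
  haveI : NeZero (2 ^ n : ℕ) := ⟨by positivity⟩
  have hc := Nat.card_congr e.toEquiv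
  rw [hK, Nat.card_eq_fintype_card, QuaternionGroup.card] at hc
  have hn : n = 2 := Nat.pow_right_injective le_rfl (show 2 ^ n = 2 ^ 2 by omega)
  subst hn
  refine ⟨(e.symm (QuaternionGroup.a 1) : G), Subtype.prop _, ?_, fun y hy hc' => ?_⟩
  · rw [Subgroup.orderOf_coe, MulEquiv.orderOf_eq, QuaternionGroup.orderOf_a_one]
    norm_num
  · have key : ∀ q : QuaternionGroup (2 ^ 2), q * QuaternionGroup.a 1 = QuaternionGroup.a 1 * q →
        ∃ i : Fin 8, q = QuaternionGroup.a 1 ^ (i : ℕ) := by decide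
    obtain ⟨i, hi⟩ := key (e ⟨y, hy⟩) (e.symm.injective (by
      rw [map_mul, map_mul, e.symm_apply_apply]
      exact Subtype.ext hc'.eq))
    refine ⟨(i : ℕ), ?_⟩
    have h := congrArg (fun z : K => (z : G)) (congrArg e.symm hi)
    simp only [e.symm_apply_apply, map_pow, SubmonoidClass.coe_pow] at h
    simpa using h.symm

/-- A central element of a quaternion group of order at least 16 squares to one. -/
theorem quaternion_central {m : ℕ} (hm : 4 ≤ m) (q : QuaternionGroup m) (hq : ∀ r, q * r = r * q) :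
    q * q = 1 := by
  haveI : NeZero m := ⟨by omega⟩
  rcases q with i | i
  · have h := hq (QuaternionGroup.xa 0)
    rw [QuaternionGroup.a_mul_xa, QuaternionGroup.xa_mul_a] at h
    simp only [QuaternionGroup.xa.injEq, zero_sub, zero_add] at h
    rw [QuaternionGroup.a_mul_a, QuaternionGroup.one_def]
    congr 1
    linear_combination -h
  · exfalso
    have h := hq (QuaternionGroup.a 1)
    rw [QuaternionGroup.a_mul_xa, QuaternionGroup.xa_mul_a] at h
    simp only [QuaternionGroup.xa.injEq] at h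
    have h2 : ((2 : ℕ) : ZMod (2 * m)) = 0 := by
      push_cast
      linear_combination h
    rw [ZMod.natCast_eq_zero_iff] at h2
    have := Nat.le_of_dvd two_pos h2
    omega

end

variable {G : Type*} [Group G] [Fintype G]

/-- A common order `u` of the regular part at 7, of size at least 16. -/
structure Big (G : Type*) [Group G] (u : ℕ) : Prop where
  hu : u = 16 ∨ u = 128
  card_N : ∀ Q : Sylow 7 G, Nat.card (normalizer ((Q : Subgroup G) : Set G)) = 7 * (3 * u)
  card_C : ∀ Q : Sylow 7 G, Nat.card (centralizer ((Q : Subgroup G) : Set G)) = 7 * u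
  card_P : ∀ Q : Sylow 7 G, Nat.card (Q : Subgroup G) = 7
  cent : ∀ t : G, orderOf t = 2 → Nat.card (centralizer ({t} : Set G)) = 2688
  conj : ∀ s t : G, orderOf s = 2 → orderOf t = 2 → IsConj s t
  simple : IsSimpleGroup G

variable [Fact (Nat.Prime 7)] {u : ℕ} (hB : Big G u)
include hB

theorem Big.two_elem_mem {Q : Sylow 7 G} {g : G} {i : ℕ} (hg : g • Q = Q) (h2 : g ^ 2 ^ i = 1) :
    g ∈ centralizer ((Q : Subgroup G) : Set G) :=
  haveI := hB.simple
  Band6232.centralizes_of_coprime Q (hB.card_N Q) (hB.card_C Q) rfl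
    (Nat.Coprime.coprime_dvd_left (orderOf_dvd_of_pow_eq_one h2) (Nat.Coprime.pow_left _ (by norm_num))) Q hg

/-- The Sylow 2-subgroup of `C(Q)`. -/
theorem Big.exists_two (Q : Sylow 7 G) : ∃ K : Subgroup G, Nat.card K = u ∧
    K ≤ centralizer ((Q : Subgroup G) : Set G) ∧ IsPGroup 2 K ∧
    ∀ y ∈ centralizer ((Q : Subgroup G) : Set G), ∀ i : ℕ, y ^ 2 ^ i = 1 → y ∈ K := by
  haveI : Fact (Nat.Prime 2) := ⟨Nat.prime_two⟩
  obtain ⟨S⟩ : Nonempty (Sylow 2 (centralizer ((Q : Subgroup G) : Set G))) := inferInstance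
  obtain ⟨a, ha⟩ : ∃ a, u = 2 ^ a := by
    rcases hB.hu with h | h
    · exact ⟨4, h⟩
    · exact ⟨7, h⟩
  have hS : Nat.card (S : Subgroup (centralizer ((Q : Subgroup G) : Set G))) = u := by
    rw [ha]
    exact card_sylow_eq (m := 7) (by rw [hB.card_C Q, ha]; ring) (by norm_num) S
  set K := (S : Subgroup (centralizer ((Q : Subgroup G) : Set G))).map
    (centralizer ((Q : Subgroup G) : Set G)).subtype
  have hK : Nat.card K = u := by rw [card_map_of_injective (subtype_injective _), hS]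
  have hKC : K ≤ centralizer ((Q : Subgroup G) : Set G) := map_subtype_le _
  refine ⟨K, hK, hKC, S.2.map _, fun y hy i hi => ?_⟩
  obtain ⟨-, hreg⟩ := relIndex_and_reg Q (hB.card_P Q) (hB.card_N Q) (hB.card_C Q)
  have h7 : ∀ z : G, ∀ j : ℕ, z ^ 2 ^ j = 1 → ¬ 7 ∣ orderOf z := fun z j hj h => by
    have h' := (Nat.prime_seven : Nat.Prime 7).dvd_of_dvd_pow (h.trans (orderOf_dvd_of_pow_eq_one hj))
    norm_num at h'
  have hsub : (K : Set G).toFinset ⊆ reg Q := fun z hz => by
    rw [Set.mem_toFinset] at hz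
    refine (mem_reg Q).2 ⟨hKC hz, h7 z a ?_⟩
    have h := pow_card_eq_one' (x := (⟨z, hz⟩ : K))
    rw [hK, ha] at h
    exact congrArg Subtype.val h
  have he := Finset.eq_of_subset_of_card_le hsub (by
    rw [hreg, Set.toFinset_card, ← Nat.card_eq_fintype_card]; exact hK.ge)
  have hy' : y ∈ reg Q := (mem_reg Q).2 ⟨hy, h7 y i hi⟩
  rwa [← he, Set.mem_toFinset] at hy'

/-- An involution of `C(Q)` is unique and its centraliser contains `N(Q)`. -/
theorem Big.central (Q : Sylow 7 G) : ∃ t : G, orderOf t = 2 ∧ t ∈ centralizer ((Q : Subgroup G) : Set G) ∧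
    normalizer ((Q : Subgroup G) : Set G) ≤ centralizer ({t} : Set G) ∧
    ∀ s ∈ centralizer ((Q : Subgroup G) : Set G), orderOf s = 2 → s = t := by
  haveI : Fact (Nat.Prime 2) := ⟨Nat.prime_two⟩
  obtain ⟨K, hK, hKC, hK2, -⟩ := hB.exists_two Q
  have hK1 : K ≠ ⊥ := fun h => by
    rw [h, Subgroup.card_bot] at hK
    rcases hB.hu with e | e <;> omega
  obtain ⟨t, htK, ht, hcomm⟩ := exists_central_in hK2 le_rfl hK1 fun s hs d hd =>
    mul_mem (mul_mem hs hd) (inv_mem hs)
  set H := centralizer ({t} : Set G)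
  set N := normalizer ((Q : Subgroup G) : Set G)
  set C := centralizer ((Q : Subgroup G) : Set G)
  have hQH : (Q : Subgroup G) ≤ H := sylow_le_centralizer Q (hKC htK)
  have hKH : K ≤ H := fun x hx => mem_centralizer_singleton_iff.2 (hcomm x hx)
  have h7 : 7 ∣ Nat.card (N ⊓ H : Subgroup G) := by
    have h := card_dvd_of_le (le_inf le_normalizer hQH : (Q : Subgroup G) ≤ N ⊓ H)
    rwa [hB.card_P Q] at h
  have hu' : u ∣ Nat.card (N ⊓ H : Subgroup G) :=
    hK ▸ card_dvd_of_le (le_inf (hKC.trans (centralizer_le_normalizer _)) hKH)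
  obtain ⟨j, hj⟩ := Nat.Coprime.mul_dvd_of_dvd_of_dvd
    (by rcases hB.hu with e | e <;> rw [e] <;> norm_num : Nat.Coprime 7 u) h7 hu'
  have hj3 : j ∣ 3 := by
    have h : 7 * u * j ∣ 7 * u * 3 := by
      rw [← hj, show 7 * u * 3 = 7 * (3 * u) by ring, ← hB.card_N Q]
      exact card_dvd_of_le inf_le_left
    exact Nat.dvd_of_mul_dvd_mul_left (by rcases hB.hu with e | e <;> omega) h
  have hH := SylowLocal.card_eq_mul_inf Q hQH
  rw [hB.cent t ht, hj] at hH
  have hn := card_sylow_modEq_one 7 H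
  unfold Nat.ModEq at hn
  have hj' : j = 3 := by
    rcases (Nat.dvd_prime Nat.prime_three).1 hj3 with rfl | rfl
    · rcases hB.hu with rfl | rfl <;> omega
    · rfl
  have hNH : N ≤ H := by
    have := eq_of_le_of_card_ge (inf_le_left : N ⊓ H ≤ N) (by rw [hj, hB.card_N Q, hj']; ring_nf; rfl)
    exact this ▸ inf_le_right
  refine ⟨t, ht, hKC htK, hNH, fun s hs hso => ?_⟩
  obtain ⟨g, hg⟩ := isConj_iff.1 (hB.conj t s ht hso)
  obtain ⟨c, hc, hcg⟩ := exists_mul_mem_normalizer Q (sylow_le_centralizer Q hs) (a := g) fun x hx => by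
    rw [mem_centralizer_singleton_iff, ← hg]
    have h := mem_centralizer_singleton_iff.1 (hQH hx)
    calc g * x * g⁻¹ * (g * t * g⁻¹) = g * (x * t) * g⁻¹ := by group
      _ = g * t * g⁻¹ * (g * x * g⁻¹) := by rw [h]; group
  have h1 := mem_centralizer_singleton_iff.1 (hNH hcg)
  have h2 := mem_centralizer_singleton_iff.1 hc
  calc s = c * s * c⁻¹ := by rw [h2, mul_inv_cancel_right]
    _ = (c * g) * t * (c * g)⁻¹ := by rw [← hg]; group
    _ = t := by rw [h1, mul_inv_cancel_right]

theorem Big.unique {Q : Sylow 7 G} {s t : G} (hs : s ∈ centralizer ((Q : Subgroup G) : Set G))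
    (ht : t ∈ centralizer ((Q : Subgroup G) : Set G)) (hs2 : orderOf s = 2) (ht2 : orderOf t = 2) : s = t := by
  obtain ⟨w, -, -, -, hw⟩ := hB.central Q
  rw [hw s hs hs2, hw t ht ht2]

/-- The Sylow subgroups centralised by an involution. -/
theorem Big.exists_fixed {t : G} (ht : orderOf t = 2) :
    ∃ Q : Sylow 7 G, t ∈ centralizer ((Q : Subgroup G) : Set G) ∧
      Nat.card {R : Sylow 7 G // t ∈ centralizer ((R : Subgroup G) : Set G)} * (21 * u) = 2688 ∧
      normalizer ((Q : Subgroup G) : Set G) ≤ centralizer ({t} : Set G) := by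
  obtain ⟨Q0⟩ : Nonempty (Sylow 7 G) := inferInstance
  obtain ⟨w, hw, hwC, -, -⟩ := hB.central Q0
  obtain ⟨g, hg⟩ := isConj_iff.1 (hB.conj w t hw ht)
  have htQ : t ∈ centralizer (((g • Q0 : Sylow 7 G) : Subgroup G) : Set G) := by
    rw [mem_centralizer_iff, Sylow.coe_subgroup_smul]
    rintro _ ⟨x, hx, rfl⟩
    show g * x * g⁻¹ * t = t * (g * x * g⁻¹)
    rw [← hg]
    have h := mem_centralizer_iff.1 hwC x hx
    calc g * x * g⁻¹ * (g * w * g⁻¹) = g * (x * w) * g⁻¹ := by group
      _ = g * w * g⁻¹ * (g * x * g⁻¹) := by rw [h]; group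
  obtain ⟨t', ht', ht'C, hN, -⟩ := hB.central (g • Q0)
  have he := hB.unique htQ ht'C ht ht'
  subst he
  refine ⟨g • Q0, htQ, ?_, hN⟩
  have hQH := sylow_le_centralizer (g • Q0) htQ
  have hH := SylowLocal.card_eq_mul_inf (g • Q0) hQH
  rw [inf_eq_left.2 hN, hB.card_N, hB.cent t ht, SylowLocal.card_sylow_eq_card_le (g • Q0) hQH] at hH
  rw [hH, show 21 * u = 7 * (3 * u) by ring]
  congr 1
  exact Nat.card_congr (Equiv.subtypeEquivRight fun R =>
    ⟨fun h => sylow_le_centralizer R h, fun h => mem_centralizer_iff.2 fun x hx =>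
      mem_centralizer_singleton_iff.1 (h hx)⟩)

omit hB in
theorem smul_fixed {t h : G} (hh : h ∈ centralizer ({t} : Set G)) {R : Sylow 7 G}
    (hR : t ∈ centralizer ((R : Subgroup G) : Set G)) :
    t ∈ centralizer (((h • R : Sylow 7 G) : Subgroup G) : Set G) := by
  rw [mem_centralizer_iff, Sylow.coe_subgroup_smul]
  rintro _ ⟨x, hx, rfl⟩
  show h * x * h⁻¹ * t = t * (h * x * h⁻¹)
  have h1 : Commute h t := mem_centralizer_singleton_iff.1 hh
  exact ((Commute.mul_left (Commute.mul_left h1 (mem_centralizer_iff.1 hR x hx)) h1.inv_left) : _)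

/-- Conjugation on the Sylow subgroups centralised by `t`. -/
def fixedPerm (t : G) :
    centralizer ({t} : Set G) →* Perm {R : Sylow 7 G // t ∈ centralizer ((R : Subgroup G) : Set G)} where
  toFun h :=
    { toFun := fun R => ⟨(h : G) • R.1, smul_fixed h.2 R.2⟩
      invFun := fun R => ⟨(h : G)⁻¹ • R.1, smul_fixed (inv_mem h.2) R.2⟩
      left_inv := fun R => Subtype.ext (inv_smul_smul _ _)
      right_inv := fun R => Subtype.ext (smul_inv_smul _ _) }
  map_one' := Equiv.ext fun R => Subtype.ext (one_smul G R.1)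
  map_mul' a b := Equiv.ext fun R => Subtype.ext (mul_smul (a : G) (b : G) R.1)

theorem Big.isolated_false (hS : IsSimpleGroup G) (hG : ¬ IsMulCommutative G) {t : G} (ht : orderOf t = 2)
    (h : ∀ s ∈ centralizer ({t} : Set G), orderOf s = 2 → s = t) : False := by
  haveI := hS
  have hiso : IsIsolatedInvolution t := ⟨ht, fun g hg => h _ (mem_centralizer_singleton_iff.2 hg.symm.eq)
    (by rw [show g * t * g⁻¹ = MulAut.conj g t by simp, MulEquiv.orderOf_eq, ht])⟩
  have hZ := CfsgLib.Invol.zstar_center hiso (CfsgLib.JThreeType.oddCore_eq_bot ht)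
  rw [eq_bot_or_comm_of_centre hG, mem_bot] at hZ
  rw [hZ, orderOf_one] at ht
  norm_num at ht

/-- The case `u = 128`. -/
theorem Big.ne_large (hS : IsSimpleGroup G) (hG : ¬ IsMulCommutative G) : u ≠ 128 := by
  intro hu
  obtain ⟨Q⟩ : Nonempty (Sylow 7 G) := inferInstance
  obtain ⟨t, ht, -, -, -⟩ := hB.central Q
  obtain ⟨R, hR, hn, -⟩ := hB.exists_fixed ht
  refine hB.isolated_false hS hG ht fun s hs hso => ?_
  rw [hu] at hn
  haveI : Subsingleton {R : Sylow 7 G // t ∈ centralizer ((R : Subgroup G) : Set G)} :=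
    Finite.card_le_one_iff_subsingleton.1 (by omega)
  have h := congrArg Subtype.val (Subsingleton.elim (⟨s • R, smul_fixed hs hR⟩ :
    {R : Sylow 7 G // t ∈ centralizer ((R : Subgroup G) : Set G)}) ⟨R, hR⟩)
  refine hB.unique (hB.two_elem_mem (i := 1) h ?_) hR hso ht
  rw [pow_one, ← hso, pow_orderOf_eq_one]

/-- A 2-element of `C(Q)` fixes all the Sylow subgroups centralised by `t`. -/
theorem Big.fix_all (hu : u = 16) {t k : G} (ht : orderOf t = 2) {Q : Sylow 7 G}
    (hQ : t ∈ centralizer ((Q : Subgroup G) : Set G)) (hk : k ∈ centralizer ((Q : Subgroup G) : Set G))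
    {i : ℕ} (hk2 : k ^ 2 ^ i = 1) (R : Sylow 7 G) (hR : t ∈ centralizer ((R : Subgroup G) : Set G)) :
    k • R = R := by
  have hP := hB.card_P Q
  set x := gen Q hP with hx
  have hxQ : x ∈ (Q : Subgroup G) := by
    have h := pw_mem Q hP 1
    rwa [pw_one] at h
  have hxo : orderOf x = 7 := orderOf_gen Q hP
  have hkx : Commute k x := (mem_centralizer_iff.1 hk x hxQ).symm
  have hxQ' : x • Q = Q := Sylow.smul_eq_iff_mem_normalizer.2 (le_normalizer hxQ)
  have hkQ : k • Q = Q := Sylow.smul_eq_iff_mem_normalizer.2 (centralizer_le_normalizer _ hk)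
  by_cases hRQ : R = Q
  · rw [hRQ, hkQ]
  obtain ⟨Q', hQ', hn, hN'⟩ := hB.exists_fixed ht
  rw [hu] at hn
  set Ω := {R : Sylow 7 G // t ∈ centralizer ((R : Subgroup G) : Set G)}
  have hcard : Nat.card Ω = 8 := by omega
  have hxH : x ∈ centralizer ({t} : Set G) := sylow_le_centralizer Q hQ hxQ
  have hkH : k ∈ centralizer ({t} : Set G) := by
    obtain ⟨t', ht', ht'C, hN, -⟩ := hB.central Q
    rw [hB.unique hQ ht'C ht ht']
    exact hN (centralizer_le_normalizer _ hk)
  have horb : ∀ a b : ℕ, x ^ a • R = x ^ b • R → 7 ∣ (a : ℤ) - b := by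
    intro a b h
    by_contra hd
    have h1 : x ^ ((a : ℤ) - b) ∈ normalizer ((R : Subgroup G) : Set G) := by
      refine Sylow.smul_eq_iff_mem_normalizer.1 ?_
      rw [show x ^ ((a : ℤ) - b) = (x ^ b)⁻¹ * x ^ a by
        rw [sub_eq_neg_add, zpow_add, zpow_neg, zpow_natCast, zpow_natCast], mul_smul, h, inv_smul_smul]
    have h2 : x ∈ normalizer ((R : Subgroup G) : Set G) := by
      have hcop : Int.gcd ((a : ℤ) - b) 7 = 1 := by
        rw [Int.gcd_comm, ← Int.isCoprime_iff_gcd_eq_one]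
        exact (Int.prime_iff_natAbs_prime.2 (by norm_num) : Prime (7 : ℤ)).coprime_iff_not_dvd.2 hd
      have hb := Int.gcd_eq_gcd_ab ((a : ℤ) - b) 7
      rw [hcop, Nat.cast_one] at hb
      rw [← zpow_one x, hb, zpow_add, zpow_mul, zpow_mul x 7,
        show x ^ (7 : ℤ) = 1 by rw [show (7 : ℤ) = ((7 : ℕ) : ℤ) from rfl, zpow_natCast, ← hxo, pow_orderOf_eq_one],
        one_zpow, mul_one]
      exact zpow_mem h1 _
    have h3 : x ∈ (R : Subgroup G) := by
      have hRP := hB.card_P R
      have hsylow : IsPGroup 7 (zpowers x ⊔ (R : Subgroup G) : Subgroup G) :=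
        IsPGroup.to_sup_of_normal_right' (IsPGroup.of_card (n := 1) (by rw [Nat.card_zpowers, hxo, pow_one]))
          R.2 (zpowers_le.2 h2)
      have := R.3 hsylow le_sup_right
      exact this ▸ Subgroup.mem_sup_left (mem_zpowers x)
    refine hRQ (Sylow.ext ?_)
    have hz : zpowers x = (Q : Subgroup G) := zpowers_gen Q hP
    exact (eq_of_le_of_card_ge (hz ▸ zpowers_le.2 h3 : (Q : Subgroup G) ≤ R)
      (by rw [hB.card_P R, hP])).symm
  -- the orbit of `R` under `x` misses only `Q`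
  let e : Option (Fin 7) → Ω := fun o => o.elim ⟨Q, hQ⟩ fun j =>
    ⟨x ^ (j : ℕ) • R, smul_fixed (pow_mem hxH _) hR⟩
  have hQfix : ∀ j : ℕ, x ^ j • R ≠ Q := fun j h => by
    have hfix : x ^ j • Q = Q := Sylow.smul_eq_iff_mem_normalizer.2 (le_normalizer (pow_mem hxQ j))
    exact hRQ (smul_left_cancel _ (h.trans hfix.symm))
  have he : Function.Bijective e := by
    refine (Function.Injective.bijective_of_nat_card_le ?_ (by rw [hcard, Nat.card_eq_fintype_card]; rfl))
    rintro (_ | a) (_ | b) h <;> have h' := congrArg Subtype.val h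
    · rfl
    · exact absurd h'.symm (hQfix _)
    · exact absurd h' (hQfix _)
    · have := horb _ _ h'
      congr 1
      exact Fin.ext (by omega)
  obtain ⟨o, ho⟩ := he.2 ⟨k • R, smul_fixed hkH hR⟩
  have ho' : (e o).1 = k • R := congrArg Subtype.val ho
  rcases o with _ | j
  · exact absurd (smul_left_cancel k (ho'.symm.trans hkQ.symm)) hRQ
  · have ho'' : x ^ (j : ℕ) • R = k • R := ho'
    have hpow : ∀ n : ℕ, k ^ n • R = x ^ ((j : ℕ) * n) • R := by
      intro n
      induction n with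
      | zero => simp
      | succ n ih =>
        rw [pow_succ', mul_smul, ih, ← mul_smul, (hkx.pow_right _).eq, mul_smul,
          ← ho'', ← mul_smul, ← pow_add, mul_add, mul_one]
    have h := hpow (2 ^ i)
    rw [hk2, one_smul] at h
    have h7 := horb ((j : ℕ) * 2 ^ i) 0 (by rw [← h, pow_zero, one_smul])
    have h8 : 7 ∣ (j : ℕ) * 2 ^ i := by
      rw [Nat.cast_zero, sub_zero] at h7
      exact_mod_cast h7
    have hj : 7 ∣ (j : ℕ) := (Nat.Coprime.pow_right i (by norm_num : Nat.Coprime 7 2)).dvd_of_dvd_mul_right h8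
    rw [← ho'']
    rw [Nat.eq_zero_of_dvd_of_lt hj j.2, pow_zero, one_smul]

/-- The fourth power of a 2-element of `C(t)` fixes the Sylow subgroups centralised by `t`. -/
theorem Big.fourth_fixes (hu : u = 16) {t w : G} (ht : orderOf t = 2)
    (hw : w ∈ centralizer ({t} : Set G)) {i : ℕ} (hw2 : w ^ 2 ^ i = 1) (R : Sylow 7 G)
    (hR : t ∈ centralizer ((R : Subgroup G) : Set G)) : w ^ 4 • R = R := by
  obtain ⟨Q, hQ, hn, hN⟩ := hB.exists_fixed ht
  rw [hu] at hn
  set H := centralizer ({t} : Set G) with hHd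
  set Ω := {R : Sylow 7 G // t ∈ centralizer ((R : Subgroup G) : Set G)}
  have hcard : Fintype.card Ω = 8 := by rw [← Nat.card_eq_fintype_card]; omega
  set f : H →* ℤˣ := (Perm.sign : Perm Ω →* ℤˣ).comp (fixedPerm t)
  have hNk : ∀ g : H, (g : G) ∈ normalizer ((Q : Subgroup G) : Set G) → f g = 1 := by
    intro g hg
    have hord : (g : G) ^ (21 * 16) = 1 := by
      have h := pow_card_eq_one' (x := (⟨(g : G), hg⟩ : normalizer ((Q : Subgroup G) : Set G)))
      rw [hB.card_N Q, hu] at h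
      exact congrArg Subtype.val h
    have h16 : ((g : G) ^ 21) ^ 2 ^ 4 = 1 := by rw [← pow_mul]; exact hord
    have hC := hB.two_elem_mem (Sylow.smul_eq_iff_mem_normalizer.2 (pow_mem hg 21)) h16
    have h21 : fixedPerm t (g ^ 21) = 1 := Equiv.ext fun S => Subtype.ext
      (hB.fix_all hu ht hQ hC h16 S.1 S.2)
    have h : f g ^ 21 = 1 := by rw [← map_pow]; simp [f, h21]
    rcases Int.units_eq_one_or (f g) with e | e
    · exact e
    · rw [e] at h; exact absurd h (by decide)
  -- every element acts as an even permutation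
  have htop : f.ker = ⊤ := by
    have hidx : f.ker.index ∣ 2 := by
      rw [Subgroup.index_ker, show (2 : ℕ) = Nat.card ℤˣ by rw [Nat.card_eq_fintype_card]; rfl]
      exact card_subgroup_dvd_card _
    rcases (Nat.dvd_prime Nat.prime_two).1 hidx with h | h
    · exact index_eq_one.1 h
    exfalso
    set M : Subgroup G := f.ker.map H.subtype with hMd
    have hM : Nat.card M = 1344 := by
      have h' := f.ker.card_mul_index
      rw [h, hB.cent t ht] at h'
      rw [card_map_of_injective (subtype_injective _)]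
      omega
    have hNM : normalizer ((Q : Subgroup G) : Set G) ≤ M := fun g hg =>
      ⟨⟨g, hN hg⟩, MonoidHom.mem_ker.2 (hNk _ hg), rfl⟩
    have hc := SylowLocal.card_eq_mul_inf Q (le_trans le_normalizer hNM : (Q : Subgroup G) ≤ M)
    rw [inf_eq_left.2 hNM, hB.card_N Q, hM, hu] at hc
    have hmod := card_sylow_modEq_one 7 M
    unfold Nat.ModEq at hmod
    omega
  have hsgn : Perm.sign (fixedPerm t ⟨w, hw⟩) = 1 :=
    MonoidHom.mem_ker.1 (htop ▸ mem_top (⟨w, hw⟩ : H) : (⟨w, hw⟩ : H) ∈ f.ker)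
  have h4 := perm_pow_four hcard (σ := fixedPerm t ⟨w, hw⟩) (i := i) (by
    rw [← map_pow, show (⟨w, hw⟩ : H) ^ 2 ^ i = 1 from Subtype.ext hw2, map_one]) hsgn
  rw [← map_pow] at h4
  exact congrArg Subtype.val (Equiv.congr_fun h4 ⟨R, hR⟩)

/-- The case `u = 16`. -/
theorem Big.ne_medium : u ≠ 16 := by
  intro hu
  haveI : Fact (Nat.Prime 2) := ⟨Nat.prime_two⟩
  obtain ⟨Q⟩ : Nonempty (Sylow 7 G) := inferInstance
  obtain ⟨K, hK, hKC, hK2, hKall⟩ := hB.exists_two Q
  obtain ⟨k, hkK, hk8, hkcent⟩ := exists_large (K := K) (hu ▸ hK)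
    (fun x y hx hy hxo hyo => hB.unique (hKC hx) (hKC hy) hxo hyo)
  obtain ⟨a, ha⟩ := IsPGroup.iff_orderOf.1 hK2 ⟨k, hkK⟩
  rw [Subgroup.orderOf_mk] at ha
  have ha3 : 3 ≤ a := by
    by_contra h
    have : 2 ^ a ≤ 2 ^ 2 := Nat.pow_le_pow_right two_pos (by omega)
    omega
  set t := k ^ 2 ^ (a - 1) with htd
  have ht : orderOf t = 2 := by
    rw [htd, orderOf_pow' k (by positivity), ha, Nat.gcd_eq_right (pow_dvd_pow 2 (by omega)),
      Nat.pow_div (by omega) two_pos, show a - (a - 1) = 1 by omega, pow_one]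
  set k' := k ^ 2 ^ (a - 3) with hk'd
  have hk' : k' ^ 4 = t := by
    rw [hk'd, htd, ← pow_mul, show (4 : ℕ) = 2 ^ 2 from rfl, ← pow_add, show a - 3 + 2 = a - 1 by omega]
  have hk2 : k ^ 2 ^ a = 1 := ha ▸ pow_orderOf_eq_one k
  have htC : t ∈ centralizer ((Q : Subgroup G) : Set G) := pow_mem (hKC hkK) _
  set H := centralizer ({t} : Set G) with hHd
  set X := centralizer ({k} : Set G) with hXd
  have hXH : X ≤ H := fun g hg => mem_centralizer_singleton_iff.2
    ((Commute.pow_right (mem_centralizer_singleton_iff.1 hg : Commute g k) _).eq)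
  have hRX : ∀ R : Sylow 7 G, t ∈ centralizer ((R : Subgroup G) : Set G) → (R : Subgroup G) ≤ X := fun R hR =>
    sylow_le_centralizer R (hB.two_elem_mem (hB.fix_all hu ht htC (hKC hkK) hk2 R hR) hk2)
  -- only one involution centralises `k`
  have huniq : ∀ s ∈ X, orderOf s = 2 → s = t := by
    intro s hs hso
    obtain ⟨R, hR, -, -⟩ := hB.exists_fixed hso
    have hk's : k' ∈ centralizer ({s} : Set G) := mem_centralizer_singleton_iff.2
      ((Commute.pow_left (mem_centralizer_singleton_iff.1 hs : Commute s k).symm _).eq)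
    have hfix := hB.fourth_fixes hu hso hk's (i := a) (by
      rw [hk'd, ← pow_mul, mul_comm, pow_mul, hk2, one_pow]) R hR
    rw [hk'] at hfix
    exact hB.unique hR (hB.two_elem_mem (i := 1) hfix (by rw [pow_one, ← ht, pow_orderOf_eq_one])) hso ht
  -- the order of `C(k)`
  have hQX : (Q : Subgroup G) ≤ X := hRX Q htC
  have hcnt : Nat.card (Sylow 7 X) = 8 := by
    obtain ⟨R, hR, hn, -⟩ := hB.exists_fixed ht
    rw [hu] at hn
    rw [SylowLocal.card_sylow_eq_card_le Q hQX]
    have : Nat.card {R : Sylow 7 G // (R : Subgroup G) ≤ X} =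
        Nat.card {R : Sylow 7 G // t ∈ centralizer ((R : Subgroup G) : Set G)} :=
      Nat.card_congr (Equiv.subtypeEquivRight fun R => ⟨fun h => mem_centralizer_iff.2 fun x hx =>
        mem_centralizer_singleton_iff.1 (hXH (h hx)), hRX R⟩)
    omega
  have hX := SylowLocal.card_eq_mul_inf Q hQX
  rw [hcnt] at hX
  have hkN : zpowers k ≤ normalizer ((Q : Subgroup G) : Set G) ⊓ X :=
    zpowers_le.2 ⟨centralizer_le_normalizer _ (hKC hkK), mem_centralizer_singleton_iff.2 rfl⟩
  have hdvd : 2 ^ (a + 3) ∣ Nat.card X := by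
    rw [hX, pow_add, mul_comm]
    refine Nat.mul_dvd_mul (by norm_num) ?_
    have h := card_dvd_of_le hkN
    rwa [Nat.card_zpowers, ha] at h
  -- a Sylow 2-subgroup of `C(k)` through `k`
  obtain ⟨S, hS⟩ := (IsPGroup.of_card (n := a) (by rw [Nat.card_zpowers, Subgroup.orderOf_mk, ha]) :
    IsPGroup 2 (zpowers (⟨k, mem_centralizer_singleton_iff.2 rfl⟩ : X))).exists_le_sylow
  have hS3 : 2 ^ (a + 3) ≤ Nat.card (S : Subgroup X) := by
    rw [S.card_eq_multiplicity]
    exact Nat.pow_le_pow_right two_pos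
      ((Nat.prime_two.pow_dvd_iff_le_factorization Nat.card_pos.ne').1 hdvd)
  have h64 : 2 ^ 6 ≤ 2 ^ (a + 3) := Nat.pow_le_pow_right two_pos (by omega)
  have hkS : (⟨k, mem_centralizer_singleton_iff.2 rfl⟩ : X) ∈ (S : Subgroup X) := hS (mem_zpowers _)
  rcases CfsgLib.Solvable.isCyclic_or_quaternion S.2 (fun x y hx hy => by
    have hxy : ((x : X) : G) = ((y : X) : G) := by
      rw [huniq _ (x : X).2 (by rw [Subgroup.orderOf_coe, Subgroup.orderOf_coe, hx]),
        huniq _ (y : X).2 (by rw [Subgroup.orderOf_coe, Subgroup.orderOf_coe, hy])]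
    rw [Subtype.ext (Subtype.ext hxy : (x : X) = y)]
    exact mem_zpowers y) with hcyc | ⟨-, n, ⟨e⟩⟩
  · obtain ⟨g, hg⟩ := hcyc.exists_generator
    have hgo := orderOf_eq_card_of_forall_mem_zpowers hg
    obtain ⟨i, hi⟩ := IsPGroup.iff_orderOf.1 S.2 g
    set w : G := ((g : X) : G)
    have hwo : orderOf w = Nat.card (S : Subgroup X) := by
      rw [Subgroup.orderOf_coe, Subgroup.orderOf_coe, hgo]
    have hw2 : w ^ 2 ^ i = 1 := by
      rw [← hi, ← Subgroup.orderOf_coe, ← Subgroup.orderOf_coe]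
      exact pow_orderOf_eq_one w
    have hwH : w ∈ H := hXH (g : X).2
    have h4 := hB.fourth_fixes hu ht hwH hw2 Q htC
    have h42 : (w ^ 4) ^ 2 ^ i = 1 := by rw [← pow_mul, mul_comm, pow_mul, hw2, one_pow]
    have hwK := hKall _ (hB.two_elem_mem h4 h42) i h42
    obtain ⟨j, hj⟩ := hkcent _ hwK (Commute.pow_left (mem_centralizer_singleton_iff.1 (g : X).2) 4)
    have hle : orderOf w ∣ 4 * 2 ^ a := by
      refine orderOf_dvd_of_pow_eq_one ?_
      rw [pow_mul, ← hj]
      show (k ^ j) ^ (2 ^ a) = 1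
      rw [← zpow_natCast (k ^ j) (2 ^ a), ← zpow_mul, mul_comm, zpow_mul, zpow_natCast, hk2, one_zpow]
    have := Nat.le_of_dvd (by positivity) hle
    rw [hwo] at this
    rw [pow_add] at hS3
    omega
  · haveI : NeZero (2 ^ n : ℕ) := ⟨by positivity⟩
    have hc := Nat.card_congr e.toEquiv
    rw [Nat.card_eq_fintype_card (α := QuaternionGroup (2 ^ n)), QuaternionGroup.card] at hc
    set kS : (S : Subgroup X) := ⟨_, hkS⟩
    have hz := quaternion_central (m := 2 ^ n) (by omega) (e kS) (fun r => by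
      obtain ⟨z, rfl⟩ := e.surjective r
      rw [← map_mul, ← map_mul]
      congr 1
      exact Subtype.ext (Subtype.ext (mem_centralizer_singleton_iff.1 (z : X).2).symm))
    rw [← map_mul, MulEquiv.map_eq_one_iff] at hz
    have hkk : k ^ 2 = 1 := by
      rw [sq]
      exact congrArg (fun z : (S : Subgroup X) => ((z : X) : G)) hz
    have := Nat.le_of_dvd two_pos (orderOf_dvd_of_pow_eq_one hkk)
    omega

omit hB in
/-- The Sylow data at 7 and 5. -/
theorem small_primes (hT : Top G) [Fact (Nat.Prime 5)] :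
    (∀ P : Sylow 7 G, Nat.card (normalizer ((P : Subgroup G) : Set G)) = 7 * (3 * 2) ∧
      Nat.card (centralizer ((P : Subgroup G) : Set G)) = 7 * 2) ∧
    ∀ Q : Sylow 5 G, Nat.card (normalizer ((Q : Subgroup G) : Set G)) = 5 * (4 * 3) ∧
      Nat.card (centralizer ((Q : Subgroup G) : Set G)) = 5 * 3 := by
  obtain ⟨P0⟩ : Nonempty (Sylow 7 G) := inferInstance
  obtain ⟨u, hu, hN0, hC0, hc0, h5⟩ := seventh_data hT P0
  refine ⟨fun P => ?_, h5⟩
  have huni : ∀ P : Sylow 7 G, Nat.card (normalizer ((P : Subgroup G) : Set G)) = 7 * (3 * u) ∧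
      Nat.card (centralizer ((P : Subgroup G) : Set G)) = 7 * u := fun P =>
    ⟨(Nat.eq_of_mul_eq_mul_left Nat.card_pos
      ((card_sylow_mul_card_normalizer P).trans (card_sylow_mul_card_normalizer P0).symm)).trans hN0,
     (SylowLocal.card_centralizer_sylow P0 P).trans hC0⟩
  suffices h : u = 2 by subst h; exact huni P
  by_contra hne
  haveI := hT.simple
  have hu' : u = 16 ∨ u = 128 := by
    simp only [List.mem_cons, List.not_mem_nil, or_false] at hu
    omega
  have hconj : ∀ s t : G, orderOf s = 2 → orderOf t = 2 → IsConj s t := fun s t hs ht => one_class hT h5 hs ht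
  have hB : Big G u := by
    refine ⟨hu', fun Q => (huni Q).1, fun Q => (huni Q).2,
      fun Q => Band6232.card_of_prime (show Nat.card G = 7 * 1457280 by rw [hT.card]) (by norm_num) Q,
      fun t ht => ?_, hconj, hT.simple⟩
    obtain ⟨w, hwC, hw⟩ := Band6232.exists_of_dvd_centralizer (q := 2) Nat.prime_two hC0
      (dvd_mul_of_dvd_right (by rcases hu' with e | e <;> rw [e] <;> norm_num) 7)
    obtain ⟨g, rfl⟩ := isConj_iff.1 (hconj w t hw ht)
    rw [show ({g * w * g⁻¹} : Set G) = {MulAut.conj g w} by simp, ← hc0 w hwC hw]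
    exact Nat.card_congr
      { toFun := fun y => ⟨g⁻¹ * y * g, mem_centralizer_singleton_iff.2 (by
          have h := mem_centralizer_singleton_iff.1 y.2
          simp only [MulAut.conj_apply] at h
          calc g⁻¹ * y * g * w = g⁻¹ * (y * (g * w * g⁻¹)) * g := by group
            _ = w * (g⁻¹ * y * g) := by rw [h]; group)⟩
        invFun := fun y => ⟨g * y * g⁻¹, mem_centralizer_singleton_iff.2 (by
          have h := mem_centralizer_singleton_iff.1 y.2
          simp only [MulAut.conj_apply]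
          calc g * y * g⁻¹ * (g * w * g⁻¹) = g * (y * w) * g⁻¹ := by group
            _ = g * w * g⁻¹ * (g * y * g⁻¹) := by rw [h]; group)⟩
        left_inv := fun y => Subtype.ext (by simp [mul_assoc])
        right_inv := fun y => Subtype.ext (by simp [mul_assoc]) }
  rcases hu' with e | e
  · exact hB.ne_medium e
  · exact hB.ne_large hT.simple hT.toSG.notComm e

end CfsgLib.MTwentyThreeUnique.FromOrder
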