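import Cfsg.Agent.Lib.MTwentyTwoUnique.FromOrder.Search
import Mathlib

/-!
The finite searches on the degrees in a principal block and the values at an involution centralising the
Sylow subgroup, for the order 10200960.
-/

set_option autoImplicit false

namespace CfsgLib.MTwentyThreeUnique.FromOrder

open CfsgLib.MTwentyTwoUnique (sgn tsgn)
open CfsgLib.MTwentyTwoUnique.FromOrder (combos exists_mem_combos noCount noCount_spec exists_lift fOf eOf
  dvs mem_dvs)

/-- Degrees to which a prime and the bound restrict a block member. -/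
def degs (p : ℕ) (ok : ℕ → Bool) : List ℕ := (List.range 3194).filter fun d =>
  decide (2 * p < d ∧ 10200960 % d = 0 ∧ (d % p = 1 ∨ d % p = p - 1)) && ok d

/-- The conditions on a value at an involution with centraliser of order `C`. -/
def okVal (C d : ℕ) (v : ℤ) : Bool :=
  decide (v * v < (d : ℤ) * d ∧ v * v ≤ (C : ℤ) ∧ (((10200960 / C : ℕ) : ℤ) * v) % (d : ℤ) = 0)

/-- The candidate values, congruent to the degree modulo `4 p`. -/
def vals (p C d : ℕ) : List ℤ :=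
  ((List.range (2 * d / (4 * p) + 1)).map fun k : ℕ => (d : ℤ) - (4 * p : ℕ) * ((k : ℤ) + 1)).filter (okVal C d)

theorem mem_vals {p C d : ℕ} {v : ℤ} (hp : 0 < p) (h : okVal C d v = true)
    (hdvd : ((4 * p : ℕ) : ℤ) ∣ (d : ℤ) - v) : v ∈ vals p C d := by
  have hv : v * v < (d : ℤ) * d := by
    simp only [okVal, decide_eq_true_eq] at h; exact h.1
  obtain ⟨j, hj⟩ := hdvd
  have h1 : v.natAbs < d := by
    by_contra hc
    have : (d : ℤ) ≤ v.natAbs := by omega
    nlinarith [Int.natAbs_mul_self' v]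
  have hp4 : (0 : ℤ) < ((4 * p : ℕ) : ℤ) := by positivity
  have hj1 : 1 ≤ j := by
    by_contra hc
    have : ((4 * p : ℕ) : ℤ) * j ≤ 0 := Int.mul_nonpos_of_nonneg_of_nonpos hp4.le (by omega)
    omega
  have hj2 : ((4 * p : ℕ) : ℤ) * j ≤ ((2 * d : ℕ) : ℤ) := by omega
  refine List.mem_filter.mpr ⟨List.mem_map.mpr ⟨(j - 1).toNat, List.mem_range.mpr ?_, ?_⟩, h⟩
  · have h3 : j.toNat * (4 * p) ≤ 2 * d := by
      have : ((j.toNat : ℕ) : ℤ) = j := Int.toNat_of_nonneg (by omega)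
      have h4 : (((j.toNat * (4 * p) : ℕ)) : ℤ) ≤ ((2 * d : ℕ) : ℤ) := by push_cast at hj2 ⊢; rw [this]; linarith
      exact_mod_cast h4
    have h4 := (Nat.le_div_iff_mul_le (by omega : 0 < 4 * p)).mpr h3
    omega
  · have : (((j - 1).toNat : ℕ) : ℤ) + 1 = j := by omega
    rw [this]; omega

/-- Run through all values, accumulating the relation, the square sum and the structure constant. -/
def fold (p C : ℕ) (chk : ℤ → ℤ → ℤ → Bool) : List ℕ → ℤ → ℤ → ℤ → Bool
  | [], T, Q, S => chk T Q S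
  | d :: L, T, Q, S => (vals p C d).all fun v => decide ((C : ℤ) < Q + v * v) ||
      fold p C chk L (T + sgn p d * v) (Q + v * v) (S + sgn p d * v * v * ((10200960 / d : ℕ) : ℤ))

theorem fold_spec {p C : ℕ} {chk : ℤ → ℤ → ℤ → Bool} : ∀ (L : List (ℕ × ℤ)) (T Q S : ℤ),
    fold p C chk (L.map Prod.fst) T Q S = true → (∀ w ∈ L, w.2 ∈ vals p C w.1) →
    Q + (L.map fun w => w.2 * w.2).sum ≤ (C : ℤ) →
    chk (T + (L.map fun w => sgn p w.1 * w.2).sum) (Q + (L.map fun w => w.2 * w.2).sum)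
      (S + (L.map fun w => sgn p w.1 * w.2 * w.2 * ((10200960 / w.1 : ℕ) : ℤ)).sum) = true := by
  intro L
  induction L with
  | nil => intro T Q S h _ _; simpa [fold] using h
  | cons w L ih =>
    intro T Q S h hv hQ
    simp only [List.map_cons, List.sum_cons] at hQ ⊢
    simp only [List.map_cons, fold, List.all_eq_true, Bool.or_eq_true, decide_eq_true_eq] at h
    have hnn : 0 ≤ (L.map fun w => w.2 * w.2).sum := List.sum_nonneg fun x hx => by
      obtain ⟨u, -, rfl⟩ := List.mem_map.mp hx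
      exact mul_self_nonneg _
    rcases h w.2 (hv w List.mem_cons_self) with h' | h'
    · omega
    · have := ih _ _ _ h' (fun u hu => hv u (List.mem_cons_of_mem _ hu)) (by linarith)
      simpa only [add_assoc] using this

/-- The symmetric block (`e = p - 1`): the relation and the count. -/
def chkFull (p : ℕ) (cs : List ℕ) (C : ℕ) (excl : Option ℕ) (T Q S : ℤ) : Bool :=
  decide (T ≠ 0) || decide ((C : ℤ) < Q) || cs.all fun c => noCount p c C excl S

/-- The block with two or more exceptional characters and odd `e`: the relation and the vanishing. -/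
def chkOdd (p f : ℕ) (ε : ℤ) (ny C : ℕ) (T Q S : ℤ) : Bool :=
  let r := ε * T
  !(okVal C f r) || decide (((f : ℤ) - r) % ((4 * p : ℕ) : ℤ) ≠ 0) ||
    decide ((C : ℤ) < Q + (ny : ℤ) * (r * r)) || decide (S - ε * r * r * ((10200960 / f : ℕ) : ℤ) ≠ 0)

/-- The degree tuples in the symmetric block. -/
def tuplesFull (p : ℕ) (ok : ℕ → Bool) : List (List ℕ) :=
  (combos (degs p ok) (p - 1) 10200959).filter fun L => decide (1 + (L.map fun d => sgn p d * (d : ℤ)).sum = 0)

/-- The degree tuples in the block with `e` non-exceptional characters. -/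
def tuplesOdd (p e : ℕ) (ok : ℕ → Bool) : List (List ℕ) :=
  (combos (degs p ok) (e - 1) 10200959).filter fun L =>
    decide (2 ≤ fOf p L ∧ 10200960 % fOf p L = 0 ∧ ((fOf p L : ℤ) - eOf p L * e) % (p : ℤ) = 0 ∧
      1 + (L.map fun d => d * d).sum + (p - 1) / e * (fOf p L * fOf p L) ≤ 10200960) && ok (fOf p L)

/-- No data in the symmetric block. -/
def deadFull (p : ℕ) (ok : ℕ → Bool) (cs Cs : List ℕ) (excl : ℕ → Option ℕ) : Bool :=
  (tuplesFull p ok).all fun L => Cs.all fun C => fold p C (chkFull p cs C (excl C)) L 1 1 10200960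

/-- No data in the block with `e` non-exceptional characters. -/
def deadOdd (p e : ℕ) (ok : ℕ → Bool) (Cs : List ℕ) : Bool :=
  (tuplesOdd p e ok).all fun L => Cs.all fun C =>
    fold p C (chkOdd p (fOf p L) (eOf p L) ((p - 1) / e) C) L 1 1 10200960

/-- Data on the symmetric block are excluded, but for the exceptional count. -/
theorem deadFull_spec {p : ℕ} {ok : ℕ → Bool} {cs Cs : List ℕ} {excl : ℕ → Option ℕ}
    (h : deadFull p ok cs Cs excl = true) (hp : 0 < p) (M : Multiset (ℕ × ℤ)) {C c A : ℕ}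
    (hcard : M.card = p - 1) (hd : ∀ w ∈ M, w.1 ∈ degs p ok)
    (hv : ∀ w ∈ M, okVal C w.1 w.2 = true ∧ ((4 * p : ℕ) : ℤ) ∣ (w.1 : ℤ) - w.2)
    (hsq : (M.map fun w => w.1 * w.1).sum ≤ 10200959)
    (hdeg : 1 + (M.map fun w => sgn p w.1 * (w.1 : ℤ)).sum = 0)
    (hT : 1 + (M.map fun w => sgn p w.1 * w.2).sum = 0)
    (hQ : 1 + (M.map fun w => w.2 * w.2).sum ≤ (C : ℤ)) (hC : C ∈ Cs) (hC0 : 0 < C) (hc : c ∈ cs)
    (hA : (A : ℤ) * A * ((C : ℤ) * C) =
      (p : ℤ) * c * (10200960 + (M.map fun w => sgn p w.1 * w.2 * w.2 * ((10200960 / w.1 : ℕ) : ℤ)).sum)) :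
    excl C = some (A * A) := by
  obtain ⟨l, hl, hl'⟩ := exists_mem_combos (degs p ok) (M.map Prod.fst) (p - 1) 10200959
    (fun d hd' => by obtain ⟨w, hw, rfl⟩ := Multiset.mem_map.mp hd'; exact hd w hw)
    (by rw [Multiset.card_map, hcard]) (by rwa [Multiset.map_map])
  obtain ⟨L, rfl, rfl⟩ := exists_lift Prod.fst l M hl'.symm
  simp only [Multiset.map_coe, Multiset.sum_coe, Multiset.mem_coe] at hv hdeg hT hQ hA
  simp only [deadFull, List.all_eq_true] at h
  have h1 := fold_spec L 1 1 10200960 (h _ (List.mem_filter.mpr ⟨hl, by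
      rw [decide_eq_true_eq, List.map_map]; exact hdeg⟩) C hC)
    (fun w hw => mem_vals hp (hv w hw).1 (hv w hw).2) hQ
  simp only [chkFull, Bool.or_eq_true, decide_eq_true_eq, List.all_eq_true] at h1
  rcases h1 with (h1 | h1) | h1
  · exact absurd hT h1
  · omega
  · exact noCount_spec hC0 (h1 c hc) A hA

/-- A degree tuple occurs in the list. -/
theorem mem_tuplesOdd {p e : ℕ} {ok : ℕ → Bool} (M : Multiset ℕ) {f : ℕ} {ε : ℤ}
    (hcard : M.card = e - 1) (hd : ∀ d ∈ M, d ∈ degs p ok) (hε : ε = 1 ∨ ε = -1)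
    (hdeg : 1 + (M.map fun d => sgn p d * (d : ℤ)).sum = ε * f) (hf : 2 ≤ f) (hfd : f ∣ 10200960)
    (hfp : (p : ℤ) ∣ (f : ℤ) - ε * e) (hfok : ok f = true)
    (hsq : 1 + (M.map fun d => d * d).sum + (p - 1) / e * (f * f) ≤ 10200960) :
    ∃ l ∈ tuplesOdd p e ok, (↑l : Multiset ℕ) = M ∧ fOf p l = f ∧ eOf p l = ε := by
  obtain ⟨l, hl, rfl⟩ := exists_mem_combos (degs p ok) M (e - 1) 10200959 hd hcard (by omega)
  simp only [Multiset.map_coe, Multiset.sum_coe] at hdeg hsq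
  have h1 : fOf p l = f := by
    rw [fOf, hdeg]; rcases hε with rfl | rfl <;> simp
  have h2 : eOf p l = ε := by
    rw [eOf, hdeg, CfsgLib.MTwentyTwoUnique.tsgn]
    rcases hε with rfl | rfl
    · rw [if_pos (by omega)]
    · rw [if_neg (by omega)]
  refine ⟨l, List.mem_filter.mpr ⟨hl, ?_⟩, rfl, h1, h2⟩
  rw [Bool.and_eq_true, decide_eq_true_eq, h1, h2]
  exact ⟨⟨hf, Nat.mod_eq_zero_of_dvd hfd, Int.emod_eq_zero_of_dvd hfp, hsq⟩, hfok⟩

/-- No degrees at all. -/
theorem noTuples_spec {p e : ℕ} {ok : ℕ → Bool} (h : tuplesOdd p e ok = []) (M : Multiset ℕ) {f : ℕ} {ε : ℤ}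
    (hcard : M.card = e - 1) (hd : ∀ d ∈ M, d ∈ degs p ok) (hε : ε = 1 ∨ ε = -1)
    (hdeg : 1 + (M.map fun d => sgn p d * (d : ℤ)).sum = ε * f) (hf : 2 ≤ f) (hfd : f ∣ 10200960)
    (hfp : (p : ℤ) ∣ (f : ℤ) - ε * e) (hfok : ok f = true)
    (hsq : 1 + (M.map fun d => d * d).sum + (p - 1) / e * (f * f) ≤ 10200960) : False := by
  obtain ⟨l, hl, -⟩ := mem_tuplesOdd M hcard hd hε hdeg hf hfd hfp hfok hsq
  rw [h] at hl
  exact List.not_mem_nil hl

/-- Data on the block with several exceptional characters are excluded. -/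
theorem deadOdd_spec {p e : ℕ} {ok : ℕ → Bool} {Cs : List ℕ} (h : deadOdd p e ok Cs = true) (hp : 0 < p)
    (M : Multiset (ℕ × ℤ)) {C f : ℕ} {ε r : ℤ} (hcard : M.card = e - 1) (hd : ∀ w ∈ M, w.1 ∈ degs p ok)
    (hε : ε = 1 ∨ ε = -1) (hdeg : 1 + (M.map fun w => sgn p w.1 * (w.1 : ℤ)).sum = ε * f) (hf : 2 ≤ f)
    (hfd : f ∣ 10200960) (hfp : (p : ℤ) ∣ (f : ℤ) - ε * e) (hfok : ok f = true)
    (hsq : 1 + (M.map fun w => w.1 * w.1).sum + (p - 1) / e * (f * f) ≤ 10200960)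
    (hv : ∀ w ∈ M, okVal C w.1 w.2 = true ∧ ((4 * p : ℕ) : ℤ) ∣ (w.1 : ℤ) - w.2)
    (hr : okVal C f r = true) (hr' : ((4 * p : ℕ) : ℤ) ∣ (f : ℤ) - r)
    (hT : 1 + (M.map fun w => sgn p w.1 * w.2).sum = ε * r)
    (hQ : 1 + (M.map fun w => w.2 * w.2).sum + (((p - 1) / e : ℕ) : ℤ) * (r * r) ≤ (C : ℤ)) (hC : C ∈ Cs)
    (hS : 10200960 + (M.map fun w => sgn p w.1 * w.2 * w.2 * ((10200960 / w.1 : ℕ) : ℤ)).sum =
      ε * r * r * ((10200960 / f : ℕ) : ℤ)) : False := by
  obtain ⟨l, hl, hl', h1, h2⟩ := mem_tuplesOdd (M.map Prod.fst) (e := e)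
    (by rw [Multiset.card_map, hcard])
    (fun d hd' => by obtain ⟨w, hw, rfl⟩ := Multiset.mem_map.mp hd'; exact hd w hw) hε
    (by rw [Multiset.map_map]; exact hdeg) hf hfd hfp hfok (by rw [Multiset.map_map]; exact hsq)
  obtain ⟨L, rfl, rfl⟩ := exists_lift Prod.fst l M hl'.symm
  simp only [Multiset.map_coe, Multiset.sum_coe, Multiset.mem_coe] at hv hT hQ hS
  simp only [deadOdd, List.all_eq_true] at h
  have h3 := fold_spec L 1 1 10200960 (h _ hl C hC)
    (fun w hw => mem_vals hp (hv w hw).1 (hv w hw).2)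
    (le_trans (le_add_of_nonneg_right (mul_nonneg (Int.natCast_nonneg _) (mul_self_nonneg r))) hQ)
  rw [h1, h2] at h3
  have hr2 : ε * (1 + (L.map fun w => sgn p w.1 * w.2).sum) = r := by
    rw [hT, ← mul_assoc]; rcases hε with rfl | rfl <;> simp
  simp only [chkOdd, hr2, hr, Bool.not_true, Bool.false_or, Bool.or_eq_true, decide_eq_true_eq] at h3
  rcases h3 with (h3 | h3) | h3
  · exact h3 (Int.emod_eq_zero_of_dvd hr')
  · omega
  · omega

end CfsgLib.MTwentyThreeUnique.FromOrder
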