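import Cfsg.Agent.Lib.MTwentyThreeUnique.Hyp
import Mathlib

/-!
A simple group of order 10200960: the facts at the two largest primes from which the others follow.
-/

set_option autoImplicit false

noncomputable section

namespace CfsgLib.MTwentyThreeUnique.FromOrder

open Subgroup Cfsg

/-- Simplicity and the order. -/
structure SG (G : Type*) [Group G] : Prop where
  card : Nat.card G = 10200960
  simple : IsSimpleGroup G

/-- The order, simplicity and the Sylow normalisers at 11 and 23. -/
structure Top (G : Type*) [Group G] : Prop extends SG G where
  twentyThree : ∀ x : G, orderOf x = 23 → Nat.card (centralizer ({x} : Set G)) = 23 ∧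
    Nat.card (normalizer ((zpowers x : Subgroup G) : Set G)) = 253
  eleven : ∀ x : G, orderOf x = 11 → Nat.card (centralizer ({x} : Set G)) = 11 ∧
    Nat.card (normalizer ((zpowers x : Subgroup G) : Set G)) = 55

end CfsgLib.MTwentyThreeUnique.FromOrder
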