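import Cfsg.Agent.Lib.MTwentyThreeUnique.FromOrder.Top
import Cfsg.Agent.Lib.MTwentyThreeUnique.FromOrder.Setting
import Cfsg.Agent.Lib.MTwentyThreeUnique.Degrees
import Cfsg.Agent.Lib.MTwentyTwoUnique.FromOrder.Search
import Mathlib

/-!
A simple group of order 10200960: the degrees restricted by the self-centralising blocks at 11 and 23.
-/

set_option autoImplicit false
set_option linter.style.haveILetI false
set_option linter.unusedSectionVars false

noncomputable section

open scoped ComplexConjugate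

namespace CfsgLib.MTwentyThreeUnique.FromOrder

open Subgroup CfsgLib.InvolChar Cfsg
open CfsgLib.MTwentyTwoUnique (SC exists_sc sgn)
open CfsgLib.MTwentyTwoUnique.FromOrder (exists_mem_combos)
attribute [local instance] Classical.propDecidable

/-- The residues allowed modulo 23 and 11. -/
def okDeg (d : ℕ) : Bool := decide (d % 23 ∈ [0, 1, 22, 11, 12]) && decide (d % 11 ∈ [0, 1, 10, 5, 6])

/-- The possible degrees. -/
def okTen (d : ℕ) : Bool := okDeg d && decide (d ≠ 11)

theorem small_degrees : ∀ d ∈ List.range 121, 2 ≤ d → 10200960 % d = 0 → okDeg d = true →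
    d ∈ [11, 12, 22, 23, 45, 115] := by
  decide +kernel

/-- The candidates beside the trivial character among the non-exceptional ones at 11. -/
def candEleven : List ℕ := (List.range 3194).filter fun d =>
  decide (2 ≤ d ∧ 10200960 % d = 0 ∧ (d % 11 = 1 ∨ d % 11 = 10)) && okTen d

/-- The non-exceptional degrees at 11 with exceptional degree `f`. -/
def tuplesEleven (f : ℕ) : List (List ℕ) :=
  (CfsgLib.MTwentyTwoUnique.FromOrder.combos candEleven 4 (10200959 - 2 * (f * f))).filter fun L =>
    decide (1 + (L.map fun d => sgn 11 d * (d : ℤ)).sum = (f : ℤ))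

theorem tuples_large :
    tuplesEleven 896 = [[45, 45, 483, 1288], [45, 45, 230, 1035]] ∧
      tuplesEleven 126 = [[12, 23, 45, 45]] := by
  decide +kernel

variable {G : Type*} [Group G] [Fintype G]

namespace SG

variable (hG : SG G)
include hG

omit [Fintype G] in
theorem notComm : ¬ IsMulCommutative G := by
  haveI : Finite G := Nat.finite_of_card_ne_zero (by rw [hG.card]; norm_num)
  haveI := hG.simple
  exact CfsgLib.SmallGroups.not_isMulCommutative_of_not_prime (by rw [hG.card]; norm_num)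

theorem degree_dvd (χ : IrrCharacter G) : deg χ ∣ 10200960 :=
  hG.card ▸ CfsgLib.Char.degree_dvd_card χ.2 (deg_spec χ)

theorem sum_sq_bound (S : Finset (IrrCharacter G)) : ∑ χ ∈ S, deg χ * deg χ ≤ 10200960 := by
  have h := CfsgLib.Char.sum_degree_sq (G := G)
  simp only [deg_spec, hG.card, pow_two] at h
  have h' : ∑ χ : IrrCharacter G, deg χ * deg χ = 10200960 := by exact_mod_cast h
  exact h' ▸ Finset.sum_le_sum_of_subset (Finset.subset_univ S)

theorem degree_lt (χ : IrrCharacter G) : deg χ < 3194 := by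
  have h := hG.sum_sq_bound {χ}
  rw [Finset.sum_singleton] at h
  by_contra hc
  nlinarith

theorem two_le_degree {χ : IrrCharacter G} (h : χ ≠ CfsgLib.Char.irrOne) : 2 ≤ deg χ := by
  haveI := hG.simple
  by_contra hc
  have h1 : deg χ = 1 := by have := deg_pos χ; omega
  exact h (CfsgLib.SmallGroups.MElevenDegrees.eq_irrOne_of_deg_one hG.notComm χ h1)

omit [Fintype G] in
/-- The Sylow data in the shape the block theorem wants. -/
theorem sylow_shape [Finite G] {p c N : ℕ} [Fact p.Prime] (hp : p ^ 1 * (10200960 / p) = 10200960)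
    (hp' : ¬ p ∣ 10200960 / p)
    (hloc : ∀ x : G, orderOf x = p → Nat.card (centralizer ({x} : Set G)) = c ∧
      Nat.card (normalizer ((zpowers x : Subgroup G) : Set G)) = N) (P : Sylow p G) :
    Nat.card (P : Subgroup G) = p ∧ Nat.card (centralizer ((P : Subgroup G) : Set G)) = c ∧
      c * (centralizer ((P : Subgroup G) : Set G)).relIndex (normalizer ((P : Subgroup G) : Set G)) = N := by
  have hP : Nat.card (P : Subgroup G) = p := by
    simpa using CfsgLib.SmallGroups.card_sylow_eq (hG.card.trans hp.symm) hp' P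
  have hz := CfsgLib.Blocks.PrimeSylow.zpowers_gen P hP
  obtain ⟨h1, h2⟩ := hloc _ (CfsgLib.Blocks.PrimeSylow.orderOf_gen P hP)
  rw [← centralizer_closure, ← zpowers_eq_closure, hz] at h1
  rw [hz] at h2
  refine ⟨hP, h1, ?_⟩
  rw [← h2, ← h1]
  exact CfsgLib.SmallGroups.Order459648.card_centralizer_mul_relIndex _

end SG

namespace Top

variable (hT : Top G)
include hT

theorem exists_blk23 : Nonempty (SC G 23 11) := by
  haveI : Fact (Nat.Prime 23) := ⟨by norm_num⟩
  obtain ⟨P⟩ : Nonempty (Sylow 23 G) := inferInstance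
  obtain ⟨hP, hC, he⟩ := hT.toSG.sylow_shape (c := 23) (N := 253) (by norm_num) (by norm_num) hT.twentyThree P
  exact exists_sc P hP hC 11 (by omega)

theorem exists_blk11 : Nonempty (SC G 11 5) := by
  haveI : Fact (Nat.Prime 11) := ⟨by norm_num⟩
  obtain ⟨P⟩ : Nonempty (Sylow 11 G) := inferInstance
  obtain ⟨hP, hC, he⟩ := hT.toSG.sylow_shape (c := 11) (N := 55) (by norm_num) (by norm_num) hT.eleven P
  exact exists_sc P hP hC 5 (by omega)

/-- The residues of every degree. -/
theorem okDeg_of (χ : IrrCharacter G) : okDeg (deg χ) = true := by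
  haveI : Fact (Nat.Prime 23) := ⟨by norm_num⟩
  haveI : Fact (Nat.Prime 11) := ⟨by norm_num⟩
  obtain ⟨A⟩ := hT.exists_blk23
  obtain ⟨B⟩ := hT.exists_blk11
  simp only [okDeg, Bool.and_eq_true, decide_eq_true_eq]
  constructor
  · by_cases h : 23 ∣ deg χ
    · simp [Nat.mod_eq_zero_of_dvd h]
    rcases Finset.mem_union.1 (A.mem_of_not_dvd h) with h | h
    · have := ((res_mem A (by norm_num) (by norm_num)).1 h).1
      simp only [List.mem_cons, List.not_mem_nil, or_false] at this ⊢
      omega
    · obtain ⟨e1, e2⟩ := (res_mem A (by norm_num) (by norm_num)).2 h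
      simp only [List.mem_cons, List.not_mem_nil, or_false]
      split_ifs at e2 <;> omega
  · by_cases h : 11 ∣ deg χ
    · simp [Nat.mod_eq_zero_of_dvd h]
    rcases Finset.mem_union.1 (B.mem_of_not_dvd h) with h | h
    · have := ((res_mem B (by norm_num) (by norm_num)).1 h).1
      simp only [List.mem_cons, List.not_mem_nil, or_false] at this ⊢
      omega
    · obtain ⟨e1, e2⟩ := (res_mem B (by norm_num) (by norm_num)).2 h
      simp only [List.mem_cons, List.not_mem_nil, or_false]
      split_ifs at e2 <;> omega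

/-- The exceptional degree at 23 is unique. -/
theorem exc23_eq {χ ψ : IrrCharacter G} (h : deg χ % 23 = 11 ∨ deg χ % 23 = 12)
    (h' : deg ψ % 23 = 11 ∨ deg ψ % 23 = 12) : deg χ = deg ψ := by
  haveI : Fact (Nat.Prime 23) := ⟨by norm_num⟩
  obtain ⟨A⟩ := hT.exists_blk23
  have key : ∀ η : IrrCharacter G, deg η % 23 = 11 ∨ deg η % 23 = 12 → deg η = A.f := fun η hη => by
    rcases Finset.mem_union.1 (A.mem_of_not_dvd (χ := η) (by omega)) with h | h
    · have := ((res_mem A (by norm_num) (by norm_num)).1 h).1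
      simp only [List.mem_cons, List.not_mem_nil, or_false] at this
      omega
    · exact A.deg_Y η h
  rw [key χ h, key ψ h']

/-- The exceptional degree at 11 is unique. -/
theorem exc11_eq {χ ψ : IrrCharacter G} (h : deg χ % 11 = 5 ∨ deg χ % 11 = 6)
    (h' : deg ψ % 11 = 5 ∨ deg ψ % 11 = 6) : deg χ = deg ψ := by
  haveI : Fact (Nat.Prime 11) := ⟨by norm_num⟩
  obtain ⟨B⟩ := hT.exists_blk11
  have key : ∀ η : IrrCharacter G, deg η % 11 = 5 ∨ deg η % 11 = 6 → deg η = B.f := fun η hη => by
    rcases Finset.mem_union.1 (B.mem_of_not_dvd (χ := η) (by omega)) with h | h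
    · have := ((res_mem B (by norm_num) (by norm_num)).1 h).1
      simp only [List.mem_cons, List.not_mem_nil, or_false] at this
      omega
    · exact B.deg_Y η h
  rw [key χ h, key ψ h']

/-- The square of the absolute value of a character of degree 11 has no possible constituents. -/
theorem deg_ne_eleven (χ : IrrCharacter G) : deg χ ≠ 11 := by
  intro hd
  haveI : Fact (Nat.Prime 11) := ⟨by norm_num⟩
  obtain ⟨B⟩ := hT.exists_blk11
  obtain ⟨x, hx⟩ := exists_prime_orderOf_dvd_card' (G := G) 11 (by rw [hT.card]; norm_num)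
  have hχx : (χ : G → ℂ) x = 0 := by
    refine B.out_zero χ (fun h => ?_) (fun h => ?_) x hx
    · exact B.not_dvd_of_mem_X h (by rw [hd])
    · exact B.not_dvd_f (by norm_num) (by rw [← B.deg_Y χ h, hd])
  have hc := CfsgLib.Char.isCharacter_of_isIrr χ.2
  set φ : G → ℂ := (χ : G → ℂ) * fun g => conj ((χ : G → ℂ) g) with hφ
  obtain ⟨m, hm, hmi⟩ :=
    CfsgLib.Char.char_decomp (CfsgLib.Char.isCharacter_mul hc (CfsgLib.Char.isCharacter_conj hc))
  have hone : m CfsgLib.Char.irrOne = 1 := by
    have h1 := hmi CfsgLib.Char.irrOne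
    have h2 := CfsgLib.Char.classInner_irr_self χ.2
    simp only [CfsgLib.Char.classInner_def, CfsgLib.Char.irrOne_apply, Pi.mul_apply, map_one,
      mul_one] at h1 h2
    rw [h2] at h1
    exact_mod_cast h1.symm
  have hat : ∀ g : G, φ g = ∑ ψ, (m ψ : ℂ) * (ψ : G → ℂ) g := fun g => by
    have := congrFun hm g
    simpa only [Finset.sum_apply, Pi.smul_apply, smul_eq_mul] using this
  have hsum : ∑ ψ, m ψ * deg ψ = 121 := by
    have h := hat 1
    simp only [hφ, Pi.mul_apply, deg_spec, hd, map_natCast] at h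
    exact_mod_cast h.symm
  rw [← Finset.add_sum_erase _ _ (Finset.mem_univ CfsgLib.Char.irrOne), hone, deg_irrOne] at hsum
  have hall : ∀ ψ : IrrCharacter G, ψ ≠ CfsgLib.Char.irrOne → m ψ ≠ 0 →
      deg ψ ∈ [11, 12, 22, 23, 45] := by
    intro ψ hne hm0
    have hle := Finset.single_le_sum (f := fun η => m η * deg η) (fun η _ => Nat.zero_le _)
      (Finset.mem_erase.2 ⟨hne, Finset.mem_univ ψ⟩)
    have hle' : deg ψ ≤ m ψ * deg ψ := Nat.le_mul_of_pos_left _ (Nat.pos_of_ne_zero hm0)
    have hmem := small_degrees (deg ψ) (List.mem_range.2 (by omega)) (hT.toSG.two_le_degree hne)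
      (Nat.mod_eq_zero_of_dvd (hT.toSG.degree_dvd ψ)) (hT.okDeg_of ψ)
    simp only [List.mem_cons, List.not_mem_nil, or_false] at hmem ⊢
    rcases hmem with h | h | h | h | h | h
    iterate 5 omega
    exfalso
    have hsplit := Finset.add_sum_erase _ (fun η => m η * deg η)
      (Finset.mem_erase.2 ⟨hne, Finset.mem_univ ψ⟩)
    have hmp : m ψ = 1 := by
      rw [h] at hle
      omega
    have hrest : ∃ η ∈ ((Finset.univ.erase CfsgLib.Char.irrOne).erase ψ), m η * deg η ≠ 0 := by
      apply Finset.exists_ne_zero_of_sum_ne_zero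
      simp only [hmp, one_mul, h] at hsplit
      omega
    obtain ⟨η, hη, hη0⟩ := hrest
    obtain ⟨hη1, hη2⟩ := Finset.mem_erase.1 hη
    have hη' : deg η ≤ m η * deg η :=
      Nat.le_mul_of_pos_left _ (Nat.pos_of_ne_zero fun e => hη0 (by rw [e, Nat.zero_mul]))
    have hle2 := Finset.single_le_sum (f := fun η => m η * deg η) (fun η _ => Nat.zero_le _) hη
    simp only [hmp, one_mul, h] at hsplit
    have h11 : 11 ≤ deg η := by
      by_contra hlt
      have := small_degrees (deg η) (List.mem_range.2 (by omega))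
        (hT.toSG.two_le_degree (Finset.mem_erase.1 hη2).1)
        (Nat.mod_eq_zero_of_dvd (hT.toSG.degree_dvd η)) (hT.okDeg_of η)
      simp only [List.mem_cons, List.not_mem_nil, or_false] at this
      omega
    omega
  have hval : ∀ ψ : IrrCharacter G, (m ψ : ℂ) * (ψ : G → ℂ) x =
      ((if ψ = CfsgLib.Char.irrOne ∨ deg ψ % 11 = 1 then m ψ else 0 : ℕ) : ℂ) := by
    intro ψ
    by_cases h1 : ψ = CfsgLib.Char.irrOne
    · subst h1; simp [CfsgLib.Char.irrOne_apply]
    by_cases h0 : m ψ = 0
    · simp [h0]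
    have hmem := hall ψ h1 h0
    simp only [List.mem_cons, List.not_mem_nil, or_false] at hmem
    simp only [h1, false_or]
    by_cases h11 : deg ψ % 11 = 1
    · rw [if_pos h11]
      rcases Finset.mem_union.1 (B.mem_of_not_dvd (χ := ψ) (by omega)) with h | h
      · rw [B.val_X ψ h x hx]
        have h2 := B.deg_X ψ h
        rcases B.s_sq ψ h with e | e
        · simp [e]
        · rw [e] at h2; omega
      · have h2 := (res_mem B (by norm_num) (by norm_num)).2 h
        obtain ⟨e1, e2⟩ := h2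
        split_ifs at e2 <;> omega
    · rw [if_neg h11, B.out_zero ψ (fun h => B.not_dvd_of_mem_X h (by omega))
        (fun h => B.not_dvd_f (by norm_num) (by rw [← B.deg_Y ψ h]; omega)) x hx]
      simp
  have h := hat x
  rw [Finset.sum_congr rfl fun ψ _ => hval ψ, hφ, Pi.mul_apply, hχx, zero_mul, ← Nat.cast_sum] at h
  have h' := (Nat.cast_eq_zero (R := ℂ)).1 h.symm
  have h'' := (Finset.sum_eq_zero_iff.1 h') CfsgLib.Char.irrOne (Finset.mem_univ _)
  rw [if_pos (Or.inl rfl), hone] at h''
  omega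

theorem okTen_of (χ : IrrCharacter G) : okTen (deg χ) = true := by
  simp only [okTen, hT.okDeg_of χ, Bool.true_and, decide_eq_true_eq]
  exact hT.deg_ne_eleven χ

/-- The non-exceptional degrees at 11. -/
theorem exists_tupleEleven {f : ℕ} (hf : f % 11 = 5) {θ : IrrCharacter G} (hθ : deg θ = f) :
    ∃ L ∈ tuplesEleven f, (∀ χ : IrrCharacter G, χ ≠ CfsgLib.Char.irrOne → ¬ 11 ∣ deg χ →
        deg χ ∈ L ∨ deg χ = f) ∧ ∀ d ∈ L, ∃ χ : IrrCharacter G, deg χ = d := by
  haveI : Fact (Nat.Prime 11) := ⟨by norm_num⟩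
  obtain ⟨B⟩ := hT.exists_blk11
  obtain ⟨x, hx⟩ := exists_prime_orderOf_dvd_card' (G := G) 11 (by rw [hT.card]; norm_num)
  obtain ⟨h1X, hs1⟩ := B.one_X (by norm_num) (by norm_num) hx
  have hθY : θ ∈ B.Y := (Finset.mem_union.1 (B.mem_of_not_dvd (χ := θ) (by omega))).resolve_left fun h => by
    have := ((res_mem B (by norm_num) (by norm_num)).1 h).1
    simp only [List.mem_cons, List.not_mem_nil, or_false] at this
    omega
  have hBf : B.f = f := (B.deg_Y θ hθY).symm.trans hθ
  have hε : B.ε = 1 := by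
    have h := ((res_mem B (by norm_num) (by norm_num)).2 hθY).2
    rw [hBf, hf] at h
    rcases B.ε_sq with e | e
    · exact e
    · rw [e] at h; norm_num at h
  have hrel := B.deg_rel hθY (by norm_num)
  rw [hε, one_mul, hBf, ← Finset.add_sum_erase _ _ h1X, hs1, deg_irrOne] at hrel
  have hsq := hT.toSG.sum_sq_bound (B.X ∪ B.Y)
  rw [Finset.sum_union B.disj, ← Finset.add_sum_erase _ _ h1X, deg_irrOne,
    Finset.sum_congr rfl (s₁ := B.Y) fun η hη => by rw [B.deg_Y η hη], Finset.sum_const, B.card_Y,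
    smul_eq_mul, hBf] at hsq
  norm_num at hsq
  obtain ⟨l, hl, hlm⟩ := exists_mem_combos candEleven ((B.X.erase CfsgLib.Char.irrOne).val.map deg) 4
    (10200959 - 2 * (f * f)) (fun d hd => by
      obtain ⟨χ, hχ, rfl⟩ := Multiset.mem_map.1 hd
      obtain ⟨hne, hχX⟩ := Finset.mem_erase.1 (Finset.mem_def.2 hχ)
      refine List.mem_filter.2 ⟨List.mem_range.2 (hT.toSG.degree_lt χ), ?_⟩
      have := ((res_mem B (by norm_num) (by norm_num)).1 hχX).1
      simp only [List.mem_cons, List.not_mem_nil, or_false] at this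
      rw [Bool.and_eq_true, decide_eq_true_eq]
      exact ⟨⟨hT.toSG.two_le_degree hne, Nat.mod_eq_zero_of_dvd (hT.toSG.degree_dvd χ), this⟩, hT.okTen_of χ⟩)
    (by rw [Multiset.card_map, ← Finset.card_def, Finset.card_erase_of_mem h1X, B.card_X])
    (by rw [Multiset.map_map]; show ∑ χ ∈ B.X.erase CfsgLib.Char.irrOne, deg χ * deg χ ≤ _; omega)
  refine ⟨l, List.mem_filter.2 ⟨hl, ?_⟩, fun χ hne h11 => ?_, fun d hd => ?_⟩
  · rw [decide_eq_true_eq, ← Multiset.sum_coe, ← Multiset.map_coe, hlm, Multiset.map_map]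
    show 1 + ∑ χ ∈ B.X.erase CfsgLib.Char.irrOne, sgn 11 (deg χ) * (deg χ : ℤ) = _
    rw [hrel]
    push_cast
    simp only [one_mul, add_right_inj]
    refine Finset.sum_congr rfl fun χ hχ => ?_
    have := ((res_mem B (by norm_num) (by norm_num)).1 (Finset.mem_of_mem_erase hχ)).2
    rw [← this]
    simp only [sgd, sgn]
    split_ifs <;> ring
  · rcases Finset.mem_union.1 (B.mem_of_not_dvd h11) with h | h
    · left
      rw [← Multiset.mem_coe, hlm]
      exact Multiset.mem_map_of_mem _ (Finset.mem_def.1 (Finset.mem_erase.2 ⟨hne, h⟩))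
    · exact Or.inr ((B.deg_Y χ h).trans hBf)
  · rw [← Multiset.mem_coe, hlm] at hd
    obtain ⟨χ, -, h⟩ := Multiset.mem_map.1 hd
    exact ⟨χ, h⟩

/-- No degree 126. -/
theorem deg_ne_126 (χ : IrrCharacter G) : deg χ ≠ 126 := by
  intro h
  obtain ⟨L, hL, -, hex⟩ := hT.exists_tupleEleven (f := 126) (by norm_num) h
  rw [tuples_large.2, List.mem_singleton] at hL
  subst hL
  obtain ⟨ψ, hψ⟩ := hex 12 (by simp)
  have := hT.exc23_eq (χ := χ) (ψ := ψ) (by rw [h]; norm_num) (by rw [hψ]; norm_num)
  omega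

/-- The degrees prime to 11 when 896 occurs. -/
theorem deg_of_896 {θ : IrrCharacter G} (hθ : deg θ = 896) (χ : IrrCharacter G) :
    11 ∣ deg χ ∨ deg χ ∈ [1, 45, 230, 483, 896, 1035, 1288] := by
  by_cases h11 : 11 ∣ deg χ
  · exact Or.inl h11
  right
  by_cases hne : χ = CfsgLib.Char.irrOne
  · simp [hne, deg_irrOne]
  obtain ⟨L, hL, hall, -⟩ := hT.exists_tupleEleven (f := 896) (by norm_num) hθ
  rw [tuples_large.1, List.mem_cons, List.mem_singleton] at hL
  simp only [List.mem_cons, List.not_mem_nil, or_false]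
  rcases hL with rfl | rfl <;> rcases hall χ hne h11 with h | h <;>
    (try simp only [List.mem_cons, List.not_mem_nil, or_false] at h) <;> omega

end Top

end CfsgLib.MTwentyThreeUnique.FromOrder
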