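import Cfsg.Agent.Lib.MTwentyTwoUnique.FromOrder.Setting
import Cfsg.Agent.Lib.CharNormal.Galois
import Cfsg.Agent.Lib.Char.Vanishing
import Mathlib

/-!
A non-exceptional character of the principal block that is alone of its degree there is rational, and
its value at an element of prime order `q` centralising `P` is congruent to the degree modulo `p q`.
-/

set_option autoImplicit false
set_option linter.style.haveILetI false
set_option linter.unusedSectionVars false

noncomputable section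

open scoped ComplexConjugate Classical

namespace CfsgLib.MTwentyThreeUnique.FromOrder

open Subgroup CfsgLib.InvolChar CfsgLib.Blocks CfsgLib.Blocks.PrimeSylow Cfsg
open CfsgLib.MTwentyTwoUnique.FromOrder (PB reg mem_reg one_mem_reg commute_pw)

variable {G : Type*} [Group G] [Fintype G] {p : ℕ} [hp : Fact p.Prime] {P : Sylow p G} {hP : Nat.card P = p}
  {e : ℕ} (B : PB G P hP e)
include B

/-- Its values are constant on the generators of cyclic subgroups. -/
theorem char_pow_eq {χ : IrrCharacter G} (hχ : χ ∈ B.X)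
    (huniq : ∀ ψ ∈ B.X ∪ B.Y, deg ψ = deg χ → ψ = χ) (g : G) (k : ℕ) (hk : k.Coprime (orderOf g)) :
    (χ : G → ℂ) (g ^ k) = (χ : G → ℂ) g := by
  haveI : NeZero (Nat.card G) := ⟨(Nat.card_pos (α := G)).ne'⟩
  obtain ⟨u, hu⟩ := ZMod.unitsMap_surjective (_root_.orderOf_dvd_natCard g) (ZMod.unitOfCoprime k hk)
  set K := (u : ZMod (Nat.card G)).val
  have hcop : K.Coprime (Nat.card G) := ZMod.val_coe_unit_coprime u
  have hmod : K ≡ k [MOD orderOf g] := by
    rw [← ZMod.natCast_eq_natCast_iff]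
    have h1 := congrArg Units.val hu
    rw [ZMod.unitsMap_val, ZMod.coe_unitOfCoprime, ZMod.cast_eq_val] at h1
    exact h1
  obtain ⟨σ, hσ⟩ := CfsgLib.CharNormal.exists_ringEquiv_root_pow (Nat.card_pos (α := G)).ne' hcop
  set ψ := CfsgLib.CharNormal.galIrr σ χ with hψ
  have hψB : ψ ∈ B.X ∪ B.Y := by
    by_contra h
    rw [Finset.mem_union, not_or] at h
    have h0 := B.out_sum ψ h.1 h.2 1 one_ne_zero
    rw [Finset.sum_congr rfl fun z hz => by
        rw [hψ, CfsgLib.CharNormal.galIrr_apply, B.in_val χ (Finset.mem_union_left _ hχ) 1 one_ne_zero z hz,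
          B.val_X χ hχ 1 one_ne_zero, map_intCast],
      Finset.sum_const, nsmul_eq_mul, mul_eq_zero] at h0
    rcases h0 with h0 | h0
    · exact (Finset.card_pos.mpr ⟨1, one_mem_reg P⟩).ne' (by exact_mod_cast h0)
    · rcases B.s_sq χ hχ with e | e <;> rw [e] at h0 <;> norm_num at h0
  have hdeg : deg ψ = deg χ := by
    have h1 : (ψ : G → ℂ) 1 = (deg χ : ℂ) := by
      rw [hψ, CfsgLib.CharNormal.galIrr_apply, deg_spec χ, map_natCast]
    rw [deg_spec ψ] at h1
    exact_mod_cast h1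
  have h2 : σ ((χ : G → ℂ) g) = (χ : G → ℂ) g := by
    rw [← CfsgLib.CharNormal.galIrr_apply σ χ g, ← hψ, huniq ψ hψB hdeg]
  rw [← pow_eq_pow_iff_modEq.mpr hmod, ← CfsgLib.CharNormal.ringEquiv_char_apply hσ
    (CfsgLib.Char.isCharacter_of_isIrr χ.2) (_root_.orderOf_dvd_natCard g), h2]

theorem exists_int_val {χ : IrrCharacter G} (hχ : χ ∈ B.X)
    (huniq : ∀ ψ ∈ B.X ∪ B.Y, deg ψ = deg χ → ψ = χ) (g : G) : ∃ v : ℤ, (χ : G → ℂ) g = v :=
  CfsgLib.CharNormal.exists_int_of_forall_coprime (CfsgLib.Char.isCharacter_of_isIrr χ.2) g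
    fun k hk => char_pow_eq B hχ huniq g k hk

/-- The multiplicity of the trivial character of `P × ⟨y⟩`. -/
theorem mult_eq {χ : IrrCharacter G} (hχ : χ ∈ B.X) (huniq : ∀ ψ ∈ B.X ∪ B.Y, deg ψ = deg χ → ψ = χ)
    {q : ℕ} (hq : q.Prime) (hqp : q ≠ p) {y : G} (hy : orderOf y = q)
    (hyC : y ∈ centralizer ((P : Subgroup G) : Set G)) {v : ℤ} (hv : (χ : G → ℂ) y = v) :
    ∃ m : ℕ, (p : ℤ) * q * m = (deg χ : ℤ) + ((p : ℤ) - 1) * q * B.s χ + ((q : ℤ) - 1) * v := by
  haveI := hq.pos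
  set x := pw P hP (1 : ZMod p) with hx
  have hxy : ∀ (a : zpowers x) (b : zpowers y), Commute ((zpowers x).subtype a) ((zpowers y).subtype b) := by
    rintro ⟨a, ha⟩ ⟨b, hb⟩
    obtain ⟨i, rfl⟩ := mem_zpowers_iff.1 ha
    obtain ⟨j, rfl⟩ := mem_zpowers_iff.1 hb
    exact (commute_pw P hP hyC 1).zpow_zpow i j
  let f : zpowers x × zpowers y →* G := MonoidHom.noncommCoprod _ _ hxy
  have hfa : ∀ a b, f (a, b) = (a : G) * b := fun a b => rfl
  have hreg : ∀ b : zpowers y, (b : G) ∈ reg P := fun b => by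
    refine (mem_reg P).mpr ⟨zpowers_le.2 hyC b.2, fun h => ?_⟩
    have h1 : orderOf (b : G) ∣ q := by
      rw [Subgroup.orderOf_coe]
      exact (_root_.orderOf_dvd_natCard b).trans (by rw [Nat.card_zpowers, hy])
    exact hqp.symm ((Nat.prime_dvd_prime_iff_eq hp.out hq).mp (h.trans h1))
  have hval : ∀ (a : zpowers x) (b : zpowers y), (χ : G → ℂ) ((a : G) * b) =
      if a = 1 then (if b = 1 then (deg χ : ℂ) else (v : ℂ)) else (B.s χ : ℂ) := by
    intro a b
    by_cases ha : a = 1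
    · rw [if_pos ha, ha, Subgroup.coe_one, one_mul]
      by_cases hb : b = 1
      · rw [if_pos hb, hb, Subgroup.coe_one, deg_spec χ]
      · rw [if_neg hb]
        obtain ⟨k, hk⟩ := (mem_zpowers_iff_mem_range_orderOf.mp b.2 |> Finset.mem_image.mp)
        obtain ⟨-, hk⟩ := hk
        rw [← hk]
        rw [char_pow_eq B hχ huniq y k ?_, hv]
        rw [hy]
        refine ((Nat.Prime.coprime_iff_not_dvd hq).mpr fun hd => hb (Subtype.ext ?_)).symm
        rw [← hk, Subgroup.coe_one, ← orderOf_dvd_iff_pow_eq_one, hy]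
        exact hd
    · rw [if_neg ha]
      have haP : (a : G) ∈ (P : Subgroup G) := zpowers_le.2 (pw_mem P hP 1) a.2
      obtain ⟨i, hi⟩ := pw_surjOn P hP haP
      have hi0 : i ≠ 0 := fun h => ha (Subtype.ext (by rw [← hi, h, pw_zero, Subgroup.coe_one]))
      rw [← hi, B.in_val χ (Finset.mem_union_left _ hχ) i hi0 _ (hreg b), B.val_X χ hχ i hi0]
  obtain ⟨m, hm⟩ := CfsgLib.Char.classInner_char_nat
    (CfsgLib.Char.isCharacter_comp (CfsgLib.Char.isCharacter_of_isIrr χ.2) f)
    (CfsgLib.Char.isCharacter_of_isIrr (CfsgLib.Char.isIrrCharacter_one (G := zpowers x × zpowers y)))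
  have hcx : Nat.card (zpowers x) = p := by
    rw [Nat.card_zpowers, hx, pw_one]; exact orderOf_gen P hP
  have hcy : Nat.card (zpowers y) = q := by rw [Nat.card_zpowers, hy]
  rw [CfsgLib.Char.classInner_def, Nat.card_prod, hcx, hcy,
    inv_mul_eq_iff_eq_mul₀ (by exact_mod_cast Nat.mul_ne_zero hp.out.ne_zero hq.ne_zero)] at hm
  simp only [Function.comp_apply, map_one, mul_one, Fintype.sum_prod_type, hfa, hval] at hm
  rw [← Finset.add_sum_erase _ _ (Finset.mem_univ (1 : zpowers x))] at hm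
  simp only [if_pos rfl] at hm
  rw [Finset.sum_congr rfl (s₁ := Finset.univ.erase (1 : zpowers x))
      (g := fun _ => (q : ℂ) * (B.s χ : ℂ)) fun a ha => by
        rw [Finset.sum_congr rfl fun b _ => if_neg (Finset.ne_of_mem_erase ha), Finset.sum_const,
          Finset.card_univ, ← Nat.card_eq_fintype_card, hcy, nsmul_eq_mul],
    Finset.sum_const, Finset.card_erase_of_mem (Finset.mem_univ _), Finset.card_univ,
    ← Nat.card_eq_fintype_card, hcx, ← Finset.add_sum_erase _ _ (Finset.mem_univ (1 : zpowers y))] at hm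
  simp only [if_true] at hm
  rw [Finset.sum_congr rfl (s₁ := Finset.univ.erase (1 : zpowers y)) (g := fun _ => (v : ℂ))
      fun b hb => if_neg (Finset.ne_of_mem_erase hb),
    Finset.sum_const, Finset.card_erase_of_mem (Finset.mem_univ _), Finset.card_univ,
    ← Nat.card_eq_fintype_card, hcy] at hm
  refine ⟨m, ?_⟩
  have h1 : (((p - 1 : ℕ) : ℂ)) = (p : ℂ) - 1 := by rw [Nat.cast_sub hp.out.one_le, Nat.cast_one]
  have h2 : (((q - 1 : ℕ) : ℂ)) = (q : ℂ) - 1 := by rw [Nat.cast_sub hq.one_le, Nat.cast_one]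
  simp only [nsmul_eq_mul, h1, h2, if_true] at hm
  have key : (((p : ℤ) * q * m : ℤ) : ℂ) =
      (((deg χ : ℤ) + ((p : ℤ) - 1) * q * B.s χ + ((q : ℤ) - 1) * v : ℤ) : ℂ) := by
    push_cast at hm ⊢
    linear_combination -hm
  exact_mod_cast key

end CfsgLib.MTwentyThreeUnique.FromOrder
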