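import Cfsg.Agent.Lib.MTwentyThreeUnique.FromOrder.Search
import Mathlib

/-!
The search over the multisets of pairs of a degree and a value, pruned by both bounds; for the larger
blocks this is far smaller than running the values through every degree multiset.
-/

set_option autoImplicit false

namespace CfsgLib.MTwentyThreeUnique.FromOrder

open CfsgLib.MTwentyTwoUnique (sgn tsgn)
open CfsgLib.MTwentyTwoUnique.FromOrder (noCount noCount_spec)

/-- The least square of a value. -/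
def minQ : List (ℕ × ℤ) → ℤ
  | [] => 0
  | [w] => w.2 * w.2
  | w :: X => min (w.2 * w.2) (minQ X)

theorem minQ_le : ∀ (X : List (ℕ × ℤ)) (w : ℕ × ℤ), w ∈ X → minQ X ≤ w.2 * w.2 := by
  intro X
  induction X with
  | nil => simp
  | cons a X ih =>
    intro w hw
    cases X with
    | nil => rw [List.mem_singleton] at hw; subst hw; exact le_rfl
    | cons b Y =>
      rcases List.mem_cons.mp hw with rfl | hw
      · exact min_le_left _ _
      · exact le_trans (min_le_right _ _) (ih w hw)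

/-- Run through the multisets of `k` pairs with squares within `B` and `Q`. -/
def dfs (p : ℕ) (chk : ℕ → ℤ → ℤ → ℤ → ℤ → Bool) : List (ℕ × ℤ) → ℕ → ℕ → ℤ → ℤ → ℤ → ℤ → Bool
  | [], k, B, Q, T, D, S => decide (k ≠ 0) || chk B Q T D S
  | w :: X, k, B, Q, T, D, S => if k = 0 then chk B Q T D S else
      decide (Q < (k : ℤ) * minQ (w :: X)) || (List.range (k + 1)).all fun j =>
        decide (B < j * (w.1 * w.1)) || decide (Q < (j : ℤ) * (w.2 * w.2)) ||
          dfs p chk X (k - j) (B - j * (w.1 * w.1)) (Q - (j : ℤ) * (w.2 * w.2))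
            (T + (j : ℤ) * (sgn p w.1 * w.2)) (D + (j : ℤ) * (sgn p w.1 * (w.1 : ℤ)))
            (S + (j : ℤ) * (sgn p w.1 * w.2 * w.2 * ((10200960 / w.1 : ℕ) : ℤ)))

theorem dfs_spec {p : ℕ} {chk : ℕ → ℤ → ℤ → ℤ → ℤ → Bool} :
    ∀ (X : List (ℕ × ℤ)) (M : Multiset (ℕ × ℤ)) (k B : ℕ) (Q T D S : ℤ),
      dfs p chk X k B Q T D S = true → (∀ w ∈ M, w ∈ X) → M.card = k →
      (M.map fun w => w.1 * w.1).sum ≤ B → (M.map fun w => w.2 * w.2).sum ≤ Q →
      chk (B - (M.map fun w => w.1 * w.1).sum) (Q - (M.map fun w => w.2 * w.2).sum)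
        (T + (M.map fun w => sgn p w.1 * w.2).sum) (D + (M.map fun w => sgn p w.1 * (w.1 : ℤ)).sum)
        (S + (M.map fun w => sgn p w.1 * w.2 * w.2 * ((10200960 / w.1 : ℕ) : ℤ)).sum) = true := by
  classical
  intro X
  induction X with
  | nil =>
    intro M k B Q T D S h hM hk _ _
    have : M = 0 := Multiset.eq_zero_of_forall_notMem fun d hd => List.not_mem_nil (hM d hd)
    subst this
    subst hk
    simpa [dfs] using h
  | cons w X ih =>
    intro M k B Q T D S h hM hk hB hQ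
    rcases Nat.eq_zero_or_pos k with rfl | hk0
    · have : M = 0 := Multiset.card_eq_zero.mp hk
      subst this
      simpa [dfs] using h
    rw [dfs, if_neg hk0.ne'] at h
    simp only [Bool.or_eq_true, decide_eq_true_eq, List.all_eq_true, List.mem_range] at h
    rcases h with h | h
    · exfalso
      have h1 := Multiset.card_nsmul_le_sum (s := M.map fun w => w.2 * w.2) (a := minQ (w :: X))
        fun x hx => by
          obtain ⟨u, hu, rfl⟩ := Multiset.mem_map.mp hx
          exact minQ_le _ u (hM u hu)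
      rw [Multiset.card_map, hk, nsmul_eq_mul] at h1
      linarith
    set j := (M.filter (· = w)).card with hj
    set M' := M.filter (fun u => ¬ u = w) with hM'
    have hsplit : M.filter (· = w) + M' = M := Multiset.filter_add_not _ M
    have hrep : M.filter (· = w) = Multiset.replicate j w :=
      Multiset.eq_replicate.mpr ⟨rfl, fun d hd => (Multiset.mem_filter.mp hd).2⟩
    rw [hrep] at hsplit
    have hcard : j + M'.card = k := by
      have h := congrArg Multiset.card hsplit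
      rwa [Multiset.card_add, Multiset.card_replicate, hk] at h
    rw [← hsplit] at hB hQ ⊢
    simp only [Multiset.map_add, Multiset.sum_add, Multiset.map_replicate, Multiset.sum_replicate,
      nsmul_eq_mul, smul_eq_mul, Nat.cast_id] at hB hQ ⊢
    have hnn : 0 ≤ (M'.map fun w => w.2 * w.2).sum := Multiset.sum_nonneg fun x hx => by
      obtain ⟨u, -, rfl⟩ := Multiset.mem_map.mp hx
      exact mul_self_nonneg _
    rcases h j (by omega) with (h | h) | h
    · omega
    · linarith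
    · have := ih M' (k - j) _ _ _ _ _ h
        (fun u hu => (List.mem_cons.mp (hM u (Multiset.mem_filter.mp hu).1)).resolve_left
          (Multiset.mem_filter.mp hu).2)
        (by omega) (by omega) (by linarith)
      simpa only [Nat.sub_sub, sub_sub, add_assoc] using this

/-- The pairs of an admissible degree and value. -/
def pairs (p C : ℕ) (ok : ℕ → Bool) : List (ℕ × ℤ) :=
  (degs p ok).flatMap fun d => (vals p C d).map (Prod.mk d)

theorem mem_pairs {p C : ℕ} {ok : ℕ → Bool} (hp : 0 < p) {w : ℕ × ℤ} (h1 : w.1 ∈ degs p ok)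
    (h2 : okVal C w.1 w.2 = true) (h3 : ((4 * p : ℕ) : ℤ) ∣ (w.1 : ℤ) - w.2) : w ∈ pairs p C ok :=
  List.mem_flatMap.mpr ⟨w.1, h1, List.mem_map.mpr ⟨w.2, mem_vals hp h2 h3, rfl⟩⟩

/-- The leaf of the symmetric block. -/
def leafFull (p : ℕ) (cs : List ℕ) (C : ℕ) (excl : Option ℕ) (_ : ℕ) (_ T D S : ℤ) : Bool :=
  decide (T ≠ 0) || decide (D ≠ 0) || cs.all fun c => noCount p c C excl S

/-- The leaf of the block with several exceptional characters and odd `e`. -/
def leafOdd (p e : ℕ) (ok : ℕ → Bool) (C : ℕ) (B : ℕ) (Q T D S : ℤ) : Bool :=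
  let f := D.natAbs
  let ε := tsgn D
  let r := ε * T
  decide (f < 2) || decide (10200960 % f ≠ 0) || !(ok f) || decide (((f : ℤ) - ε * e) % (p : ℤ) ≠ 0) ||
    decide (B < (p - 1) / e * (f * f)) || !(okVal C f r) ||
    decide (((f : ℤ) - r) % ((4 * p : ℕ) : ℤ) ≠ 0) || decide (Q < (((p - 1) / e : ℕ) : ℤ) * (r * r)) ||
    decide (S - ε * r * r * ((10200960 / f : ℕ) : ℤ) ≠ 0)

/-- No data in the symmetric block. -/
def dfsFull (p : ℕ) (ok : ℕ → Bool) (cs Cs : List ℕ) (excl : ℕ → Option ℕ) : Bool :=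
  Cs.all fun C => dfs p (leafFull p cs C (excl C)) (pairs p C ok) (p - 1) 10200959 ((C : ℤ) - 1) 1 1 10200960

/-- No data in the block with `e` non-exceptional characters. -/
def dfsOdd (p e : ℕ) (ok : ℕ → Bool) (Cs : List ℕ) : Bool :=
  Cs.all fun C => dfs p (leafOdd p e ok C) (pairs p C ok) (e - 1) 10200959 ((C : ℤ) - 1) 1 1 10200960

/-- Data on the symmetric block are excluded, but for the exceptional count. -/
theorem dfsFull_spec {p : ℕ} {ok : ℕ → Bool} {cs Cs : List ℕ} {excl : ℕ → Option ℕ}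
    (h : dfsFull p ok cs Cs excl = true) (hp : 0 < p) (M : Multiset (ℕ × ℤ)) {C c A : ℕ}
    (hcard : M.card = p - 1) (hd : ∀ w ∈ M, w.1 ∈ degs p ok)
    (hv : ∀ w ∈ M, okVal C w.1 w.2 = true ∧ ((4 * p : ℕ) : ℤ) ∣ (w.1 : ℤ) - w.2)
    (hsq : (M.map fun w => w.1 * w.1).sum ≤ 10200959)
    (hdeg : 1 + (M.map fun w => sgn p w.1 * (w.1 : ℤ)).sum = 0)
    (hT : 1 + (M.map fun w => sgn p w.1 * w.2).sum = 0)
    (hQ : 1 + (M.map fun w => w.2 * w.2).sum ≤ (C : ℤ)) (hC : C ∈ Cs) (hC0 : 0 < C) (hc : c ∈ cs)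
    (hA : (A : ℤ) * A * ((C : ℤ) * C) =
      (p : ℤ) * c * (10200960 + (M.map fun w => sgn p w.1 * w.2 * w.2 * ((10200960 / w.1 : ℕ) : ℤ)).sum)) :
    excl C = some (A * A) := by
  simp only [dfsFull, List.all_eq_true] at h
  have h1 := dfs_spec (pairs p C ok) M (p - 1) 10200959 ((C : ℤ) - 1) 1 1 10200960 (h C hC)
    (fun w hw => mem_pairs hp (hd w hw) (hv w hw).1 (hv w hw).2) hcard hsq (by linarith)
  simp only [leafFull, hdeg, hT, ne_eq, not_true, decide_false, Bool.false_or, List.all_eq_true] at h1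
  exact noCount_spec hC0 (h1 c hc) A hA

/-- Data on the block with several exceptional characters are excluded. -/
theorem dfsOdd_spec {p e : ℕ} {ok : ℕ → Bool} {Cs : List ℕ} (h : dfsOdd p e ok Cs = true) (hp : 0 < p)
    (M : Multiset (ℕ × ℤ)) {C f : ℕ} {ε r : ℤ} (hcard : M.card = e - 1) (hd : ∀ w ∈ M, w.1 ∈ degs p ok)
    (hε : ε = 1 ∨ ε = -1) (hdeg : 1 + (M.map fun w => sgn p w.1 * (w.1 : ℤ)).sum = ε * f) (hf : 2 ≤ f)
    (hfd : f ∣ 10200960) (hfp : (p : ℤ) ∣ (f : ℤ) - ε * e) (hfok : ok f = true)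
    (hsq : 1 + (M.map fun w => w.1 * w.1).sum + (p - 1) / e * (f * f) ≤ 10200960)
    (hv : ∀ w ∈ M, okVal C w.1 w.2 = true ∧ ((4 * p : ℕ) : ℤ) ∣ (w.1 : ℤ) - w.2)
    (hr : okVal C f r = true) (hr' : ((4 * p : ℕ) : ℤ) ∣ (f : ℤ) - r)
    (hT : 1 + (M.map fun w => sgn p w.1 * w.2).sum = ε * r)
    (hQ : 1 + (M.map fun w => w.2 * w.2).sum + (((p - 1) / e : ℕ) : ℤ) * (r * r) ≤ (C : ℤ)) (hC : C ∈ Cs)
    (hS : 10200960 + (M.map fun w => sgn p w.1 * w.2 * w.2 * ((10200960 / w.1 : ℕ) : ℤ)).sum =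
      ε * r * r * ((10200960 / f : ℕ) : ℤ)) : False := by
  simp only [dfsOdd, List.all_eq_true] at h
  have hr0 : 0 ≤ (((p - 1) / e : ℕ) : ℤ) * (r * r) := mul_nonneg (Int.natCast_nonneg _) (mul_self_nonneg r)
  have h1 := dfs_spec (pairs p C ok) M (e - 1) 10200959 ((C : ℤ) - 1) 1 1 10200960 (h C hC)
    (fun w hw => mem_pairs hp (hd w hw) (hv w hw).1 (hv w hw).2) hcard (by omega) (by linarith)
  rw [hdeg, hT] at h1
  have e1 : (ε * (f : ℤ)).natAbs = f := by rcases hε with rfl | rfl <;> simp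
  have e2 : tsgn (ε * (f : ℤ)) = ε := by
    rw [tsgn]; rcases hε with rfl | rfl
    · rw [if_pos (by omega)]
    · rw [if_neg (by omega)]
  have e3 : ε * (ε * r) = r := by rcases hε with rfl | rfl <;> ring
  simp only [leafOdd, e1, e2, e3, hr, hfok, Bool.not_true, Bool.or_false, Bool.or_eq_true,
    decide_eq_true_eq] at h1
  rcases h1 with (((((h1 | h1) | h1) | h1) | h1) | h1) | h1
  · omega
  · exact h1 (Nat.mod_eq_zero_of_dvd hfd)
  · exact h1 (Int.emod_eq_zero_of_dvd hfp)
  · omega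
  · exact h1 (Int.emod_eq_zero_of_dvd hr')
  · linarith
  · exact h1 (by rw [hS, sub_self])

end CfsgLib.MTwentyThreeUnique.FromOrder
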