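import Cfsg.Agent.Lib.MTwentyThreeUnique.FromOrder.Setting
import Cfsg.Agent.Lib.MTwentyThreeUnique.FromOrder.Pairs
import Cfsg.Agent.Lib.MTwentyThreeUnique.FromOrder.Search
import Cfsg.Agent.Lib.MTwentyThreeUnique.FromOrder.Top
import Cfsg.Agent.Lib.MTwentyTwoUnique.FromOrder.Tools
import Mathlib

/-!
A simple group of order 10200960: from the principal block to the searches over pairs.
-/

set_option autoImplicit false
set_option linter.style.haveILetI false
set_option linter.unusedSectionVars false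

noncomputable section

open scoped ComplexConjugate Classical

namespace CfsgLib.MTwentyThreeUnique.FromOrder

open Subgroup CfsgLib.InvolChar CfsgLib.Blocks CfsgLib.Blocks.PrimeSylow Cfsg
open CfsgLib.MTwentyTwoUnique (sgn tsgn sgn_eq)
open CfsgLib.MTwentyTwoUnique.FromOrder (PB reg mem_reg one_mem_reg invSet invSet_eq_empty fOf eOf)

variable {G : Type*} [Group G] [Fintype G] {p : ℕ} [hp : Fact p.Prime] {P : Sylow p G} {hP : Nat.card P = p} {e : ℕ}

/-- No values with `e` odd. -/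
theorem false_of_dfsOdd (hG : SG G) (B : PB G P hP e) (h2 : 2 ≤ e) (he : e + 1 < p)
    (hrel : (centralizer ((P : Subgroup G) : Set G)).relIndex (normalizer ((P : Subgroup G) : Set G)) = e)
    (hodd : e % 2 = 1) {ok : ℕ → Bool} {Cs : List ℕ} (hdead : dfsOdd p e ok Cs = true)
    (hok : ∀ χ : IrrCharacter G, χ ≠ CfsgLib.Char.irrOne → ok (deg χ) = true) {t : G} (ht : t * t = 1)
    (ht1 : t ≠ 1) (htC : t ∈ centralizer ((P : Subgroup G) : Set G))
    (hC : Nat.card (centralizer ({t} : Set G)) ∈ Cs) : False := by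
  have hp2 : p ≠ 2 := by omega
  obtain ⟨h1X, hs1⟩ := B.one_X h2 he
  obtain ⟨θ, hθ⟩ := B.Y_ne
  have hθne : θ ≠ CfsgLib.Char.irrOne := fun e => Finset.disjoint_left.mp B.disj h1X (e ▸ hθ)
  have hbig : ∀ χ ∈ B.X, χ ≠ CfsgLib.Char.irrOne → 2 * p < deg χ := fun χ hχ hne =>
    (val_facts hG B hp2 ht ht1 htC (Finset.mem_union_left _ hχ) hne).2.2
  obtain ⟨h3, h4, h5, h6, h7, h8, h9⟩ := odd_degrees hG B h2 he ok hok hbig
  obtain ⟨r, hr, hT⟩ := B.exists_val hp2 ht ht1
  set C := Nat.card (centralizer ({t} : Set G)) with hCdef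
  have hvθ := val_facts hG B hp2 ht ht1 htC (Finset.mem_union_right _ hθ) hθne
  rw [hr θ hθ, B.deg_Y θ hθ] at hvθ
  have hone : intVal CfsgLib.Char.irrOne ht = 1 := intVal_irrOne ht
  refine dfsOdd_spec hdead hp.out.pos
    ((B.X.erase CfsgLib.Char.irrOne).val.map fun χ => (deg χ, intVal χ ht)) (C := C) (r := r)
    (by rwa [Multiset.card_map] at h3 ⊢) ?_ B.ε_sq ?_ h6 h7 B.deg_f h8 ?_ ?_ hvθ.1 hvθ.2.1 ?_ ?_ hC ?_
  · intro w hw
    obtain ⟨χ, hχ, rfl⟩ := Multiset.mem_map.mp hw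
    exact h4 _ (Multiset.mem_map_of_mem _ hχ)
  · rw [Multiset.map_map] at h5 ⊢; exact h5
  · rw [Multiset.map_map] at h9 ⊢; exact h9
  · intro w hw
    obtain ⟨χ, hχ, rfl⟩ := Multiset.mem_map.mp hw
    obtain ⟨hne, hχX⟩ := Finset.mem_erase.mp (Finset.mem_def.mpr hχ)
    have := val_facts hG B hp2 ht ht1 htC (Finset.mem_union_left _ hχX) hne
    exact ⟨this.1, this.2.1⟩
  · rw [hT, ← Finset.add_sum_erase _ _ h1X, hs1, hone, mul_one, Multiset.map_map]
    show 1 + ∑ χ ∈ B.X.erase CfsgLib.Char.irrOne, sgn p (deg χ) * intVal χ ht = _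
    rw [Finset.sum_congr rfl fun χ hχ => by rw [B.sgn_X (by omega) (Finset.mem_of_mem_erase hχ)]]
  · have h := B.norm_le ht
    rw [← Finset.add_sum_erase _ _ h1X, hone, one_mul,
      Finset.sum_congr rfl (s₁ := B.Y) fun θ hθ => by rw [hr θ hθ], Finset.sum_const, B.card_Y,
      nsmul_eq_mul] at h
    rw [Multiset.map_map]
    exact h
  · have h := B.count_eq P hP hp2 ht r hr
    rw [invSet_eq_empty hrel hodd hp2 t, Finset.card_empty, Nat.cast_zero, zero_mul, zero_mul,
      eq_comm, mul_eq_zero] at h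
    have hne : (p : ℤ) * (reg P).card ≠ 0 := mul_ne_zero (by exact_mod_cast hp.out.ne_zero)
      (by exact_mod_cast (Finset.card_pos.mpr ⟨1, one_mem_reg P⟩).ne')
    have h' := h.resolve_left hne
    rw [PB.sg, sub_eq_zero, hG.card, ← Finset.add_sum_erase _ _ h1X, hs1, hone, deg_irrOne] at h'
    rw [Multiset.map_map, ← h']
    show _ + ∑ χ ∈ B.X.erase CfsgLib.Char.irrOne,
      sgn p (deg χ) * intVal χ ht * intVal χ ht * ((10200960 / deg χ : ℕ) : ℤ) = _
    rw [Finset.sum_congr rfl fun χ hχ => by rw [B.sgn_X (by omega) (Finset.mem_of_mem_erase hχ)]]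
    norm_num

/-- The symmetric block leaves only the excepted count. -/
theorem excl_of_dfsFull (hG : SG G) (B : PB G P hP e) (he : e = p - 1) (hp5 : 5 ≤ p) {ok : ℕ → Bool} {cs Cs : List ℕ}
    {excl : ℕ → Option ℕ} (hdead : dfsFull p ok cs Cs excl = true)
    (hok : ∀ χ : IrrCharacter G, χ ≠ CfsgLib.Char.irrOne → ok (deg χ) = true) {t : G} (ht : t * t = 1)
    (ht1 : t ≠ 1) (htC : t ∈ centralizer ((P : Subgroup G) : Set G))
    (hC : Nat.card (centralizer ({t} : Set G)) ∈ Cs) (hc : (reg P).card ∈ cs) :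
    excl (Nat.card (centralizer ({t} : Set G))) =
      some ((invSet (pw P hP 1) t).card * (invSet (pw P hP 1) t).card) := by
  obtain ⟨M, -, h1, h2, h3, h4, h5, h6, h7, h8⟩ := full_data hG B he hp5 ht ht1 htC
  exact dfsFull_spec hdead hp.out.pos M h1 (h2 ok hok) h3 h4 h5 h6 h7 hC Nat.card_pos hc h8

end CfsgLib.MTwentyThreeUnique.FromOrder
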