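import Cfsg.Agent.Lib.MTwentyThreeUnique.FromOrder.Cents
import Cfsg.Agent.Lib.MTwentyThreeUnique.FromOrder.SettingPairs
import Mathlib

/-!
A simple group of order 10200960: the Sylow 23-subgroup is self-centralising with normaliser of order 253.
-/

set_option autoImplicit false
set_option linter.style.haveILetI false
set_option linter.unusedSectionVars false

noncomputable section

open scoped Classical

namespace CfsgLib.MTwentyThreeUnique.FromOrder

open Subgroup CfsgLib.SmallGroups CfsgLib.SmallSimple CfsgLib.InvolChar Cfsg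
open CfsgLib.MTwentyTwoUnique.FromOrder (PB reg exists_pb exists_sylow_zpowers relIndex_and_reg
  exists_involution invSet_eq_empty dvs mem_dvs)

/-- Sylow numbers and automiser orders at 23. -/
def optsTwentyThree : List (ℕ × ℕ) :=
  [(231, 2), (576, 2), (576, 11), (576, 22), (990, 2), (1680, 2), (1680, 11), (1680, 22), (3520, 2), (5544, 2),
    (40320, 11)]

set_option maxRecDepth 100000 in
theorem optsTwentyThree_ok : Band6232.optsOK 23 443520 optsTwentyThree = true := by decide +kernel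

/-- The orders of involution centralisers for a normaliser of order `23 · 264`. -/
def centsTwentyThree : List ℕ :=
  ((([1, 24, 70, 231, 576, 990, 1680, 3520, 5544, 40320] : List ℕ).flatMap fun n =>
    (dvs [8, 3, 11]).map fun x => (n, x)).filter fun w =>
      decide (w.2 % 2 = 0 ∧ 23 * w.1 * w.2 < 10200960 ∧ 10200960 % (23 * w.1 * w.2) = 0)).map
    fun w => 23 * w.1 * w.2

theorem degs_two_twentyThree : tuplesOdd 23 2 (fun _ => true) = [] := by decide +kernel

theorem dead_twentyThree_eleven : dfsOdd 23 11 (fun _ => true) centsTwentyThree = true := by decide +kernel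

theorem dead_twentyThree_full :
    dfsFull 23 (fun _ => true) [12] centsTwentyThree (fun _ => none) = true := by decide +kernel

variable {G : Type*} [Group G] [Fintype G]

theorem mem_centsTwentyThree (hG : SG G) [Fact (Nat.Prime 23)] {P : Sylow 23 G}
    (hP : Nat.card (P : Subgroup G) = 23) (hN : Nat.card (normalizer ((P : Subgroup G) : Set G)) = 23 * 264)
    {t : G} (hto : orderOf t = 2) (htC : t ∈ centralizer ((P : Subgroup G) : Set G)) :
    Nat.card (centralizer ({t} : Set G)) ∈ centsTwentyThree := by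
  obtain ⟨n, x, hC, hn1, hnm, hx, h2x, -⟩ := cent_shape P hP (by norm_num) (m := 443520)
    (by rw [hG.card]) (by norm_num) hN hto htC
  have hlt := centralizer_lt hG (t := t) fun h => by rw [h, orderOf_one] at hto; norm_num at hto
  have hd := hG.card ▸ card_subgroup_dvd_card (centralizer ({t} : Set G))
  rw [hC] at hlt hd ⊢
  have key : ∀ k ∈ dvs [128, 9, 5, 7, 11], k % 23 = 1 →
      k ∈ ([1, 24, 70, 231, 576, 990, 1680, 3520, 5544, 40320] : List ℕ) := by decide +kernel
  refine List.mem_map.mpr ⟨(n, x), List.mem_filter.mpr ⟨List.mem_flatMap.mpr ⟨n,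
    key n (mem_dvs [128, 9, 5, 7, 11] (by simp) (by simpa using hnm)) hn1,
    List.mem_map.mpr ⟨x, mem_dvs [8, 3, 11] (by simp) (by simpa using hx), rfl⟩⟩,
    decide_eq_true ⟨Nat.mod_eq_zero_of_dvd h2x, hlt, Nat.mod_eq_zero_of_dvd hd⟩⟩, rfl⟩

/-- No element of order seven centralises a Sylow 23-subgroup. -/
theorem not_seven_twentyThree (hG : SG G) [Fact (Nat.Prime 23)] (P : Sylow 23 G) {k r u : ℕ}
    (hk : Nat.card (Sylow 23 G) = k) (hk2 : k = 576 ∨ k = 3520)
    (hN : Nat.card (normalizer ((P : Subgroup G) : Set G)) = 23 * (r * u))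
    (hC : Nat.card (centralizer ((P : Subgroup G) : Set G)) = 23 * u) (h7 : 7 ∣ u) (hr : Nat.Coprime 7 r) :
    False := by
  haveI := hG.simple
  haveI : Fact (Nat.Prime 7) := ⟨by norm_num⟩
  have hP := Band6232.card_of_prime (m := 443520) (by rw [hG.card]) (by norm_num) P
  obtain ⟨y, hy⟩ := exists_prime_orderOf_dvd_card' (G := centralizer ((P : Subgroup G) : Set G)) 7
    (hC ▸ dvd_mul_of_dvd_right h7 23)
  have hyo : orderOf (y : G) = 7 := by rw [Subgroup.orderOf_coe, hy]
  obtain ⟨h4, h5, h6, h7'⟩ := Band6232.fixCard_facts hG.not_comm P hP hk (by omega)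
    (by norm_num : Nat.Prime 7) (by norm_num) hyo y.2
    (Band6232.centralizes_of_coprime P hN hC hyo hr)
  rw [hG.card] at h7'
  set F := SylowFixed.fixCard 23 (y : G)
  have hF : F ∣ 63360 := Nat.dvd_of_mul_dvd_mul_left (by norm_num : 0 < 23 * 7) h7'
  have key : ∀ f ∈ dvs [128, 9, 5, 11], ∀ k ∈ [576, 3520], f < k → f % 23 = 1 → f % 7 = k % 7 → False := by
    decide +kernel
  exact key F (mem_dvs [128, 9, 5, 11] (by simp) (by simpa using hF)) k (by simpa using hk2) h4 h5 h6

/-- The Sylow 23-data. -/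
theorem twentyThree (hG : SG G) (x : G) (hx : orderOf x = 23) :
    Nat.card (centralizer ({x} : Set G)) = 23 ∧
      Nat.card (normalizer ((zpowers x : Subgroup G) : Set G)) = 253 := by
  haveI : Fact (Nat.Prime 23) := ⟨by norm_num⟩
  haveI := hG.simple
  have hnG : Nat.card G = 23 * 443520 := by rw [hG.card]
  obtain ⟨P, hPx, hcx⟩ := exists_sylow_zpowers hnG (by norm_num) hx
  have hP := Band6232.card_of_prime hnG (by norm_num) P
  obtain ⟨k, r, u, hmem, hk, hkru, hN, hC⟩ :=
    Band6232.options hG.not_comm hG.card (by norm_num) (by norm_num) P optsTwentyThree optsTwentyThree_ok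
  obtain ⟨hrel, hreg⟩ := relIndex_and_reg P hP hN hC
  have key : (r = 2 ∧ 2 ∣ u) ∨ ((k = 576 ∨ k = 3520) ∧ 7 ∣ u ∧ (r = 2 ∨ r = 11 ∨ r = 22)) ∨
      (r = 11 ∧ u = 24) ∨ (r = 22 ∧ u = 12) ∨ (r = 11 ∧ u = 1) := by
    simp only [optsTwentyThree, List.mem_cons, Prod.mk.injEq, List.not_mem_nil, or_false] at hmem
    rcases hmem with ⟨rfl, rfl⟩ | ⟨rfl, rfl⟩ | ⟨rfl, rfl⟩ | ⟨rfl, rfl⟩ | ⟨rfl, rfl⟩ | ⟨rfl, rfl⟩ |
      ⟨rfl, rfl⟩ | ⟨rfl, rfl⟩ | ⟨rfl, rfl⟩ | ⟨rfl, rfl⟩ | ⟨rfl, rfl⟩ <;> omega
  obtain ⟨B⟩ := exists_pb P hP r hrel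
  have hok : ∀ χ : IrrCharacter G, χ ≠ CfsgLib.Char.irrOne →
      (fun _ : ℕ => true) (InvolChar.deg χ) = true := fun _ _ => rfl
  rcases key with ⟨rfl, hu⟩ | ⟨hk', h7, hr⟩ | ⟨rfl, rfl⟩ | ⟨rfl, rfl⟩ | ⟨rfl, rfl⟩
  · obtain ⟨t, ht, ht1, -, htC, -⟩ := exists_involution P hP (by norm_num) hC hu
    exact (false_of_noTuples hG B le_rfl (by norm_num) degs_two_twentyThree hok fun χ hχ hne =>
      (val_facts hG B (by norm_num) ht ht1 htC (Finset.mem_union_left _ hχ) hne).2.2).elim
  · exact (not_seven_twentyThree hG P hk hk' hN hC h7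
      (by rcases hr with rfl | rfl | rfl <;> norm_num)).elim
  · obtain ⟨t, ht, ht1, hto, htC, -⟩ := exists_involution P hP (by norm_num) hC (by norm_num)
    exact (false_of_dfsOdd hG B (by norm_num) (by norm_num) hrel (by norm_num) dead_twentyThree_eleven hok ht
      ht1 htC (mem_centsTwentyThree hG hP hN hto htC)).elim
  · obtain ⟨t, ht, ht1, hto, htC, -⟩ := exists_involution P hP (by norm_num) hC (by norm_num)
    exact absurd (excl_of_dfsFull hG B rfl (by norm_num) dead_twentyThree_full hok ht ht1 htC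
      (mem_centsTwentyThree hG hP hN hto htC) (by rw [hreg]; simp)) (by simp)
  · exact ⟨hcx ▸ hC, hPx ▸ hN⟩

end CfsgLib.MTwentyThreeUnique.FromOrder
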