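import Cfsg.Agent.Lib.MTwentyThreeUnique.FromOrder.ElevenData
import Cfsg.Agent.Lib.MTwentyThreeUnique.FromOrder.TwentyThree
import Cfsg.Agent.Lib.MTwentyThreeUnique.FromOrder.Rational
import Cfsg.Agent.Lib.MTwentyThreeUnique.FromOrder.Degrees
import Mathlib

/-!
A simple group of order 10200960: the Sylow 11-subgroup is self-centralising with normaliser of order 55.
-/

set_option autoImplicit false
set_option linter.style.haveILetI false
set_option linter.unusedSectionVars false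

noncomputable section

open scoped Classical

namespace CfsgLib.MTwentyThreeUnique.FromOrder

open Subgroup CfsgLib.SmallGroups CfsgLib.SmallSimple CfsgLib.InvolChar CfsgLib.Blocks.PrimeSylow Cfsg
open CfsgLib.MTwentyTwoUnique (exists_sc sgn)
open CfsgLib.MTwentyTwoUnique.FromOrder (PB reg exists_pb exists_sylow_zpowers relIndex_and_reg
  exists_involution fOf eOf dvs mem_dvs)

variable {G : Type*} [Group G] [Fintype G]

/-- The residues modulo 23 of the degrees. -/
theorem okTwentyThree_of (hG : SG G) (χ : IrrCharacter G) : okTwentyThree (InvolChar.deg χ) = true := by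
  haveI : Fact (Nat.Prime 23) := ⟨by norm_num⟩
  obtain ⟨P⟩ : Nonempty (Sylow 23 G) := inferInstance
  obtain ⟨hP, hC, he⟩ := SG.sylow_shape hG (c := 23) (N := 253) (by norm_num) (by norm_num) (twentyThree hG) P
  obtain ⟨A⟩ := exists_sc P hP hC 11 (by omega)
  simp only [okTwentyThree, decide_eq_true_eq]
  by_cases h : 23 ∣ InvolChar.deg χ
  · simp [Nat.mod_eq_zero_of_dvd h]
  rcases Finset.mem_union.1 (A.mem_of_not_dvd h) with h | h
  · have := ((res_mem A (by norm_num) (by norm_num)).1 h).1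
    simp only [List.mem_cons, List.not_mem_nil, or_false] at this ⊢
    omega
  · obtain ⟨e1, e2⟩ := (res_mem A (by norm_num) (by norm_num)).2 h
    simp only [List.mem_cons, List.not_mem_nil, or_false]
    split_ifs at e2 <;> omega

variable [Fact (Nat.Prime 11)] {P : Sylow 11 G}

/-- An involution centraliser containing a Sylow 11-subgroup. -/
theorem mem_centsEleven (hG : SG G) (hP : Nat.card (P : Subgroup G) = 11) {R : ℕ} (hR : 0 < R)
    (hN : Nat.card (normalizer ((P : Subgroup G) : Set G)) = 11 * R) {t : G} (hto : orderOf t = 2)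
    (htC : t ∈ centralizer ((P : Subgroup G) : Set G)) :
    Nat.card (centralizer ({t} : Set G)) ∈ centsEleven R := by
  haveI : Fact (Nat.Prime 23) := ⟨by norm_num⟩
  obtain ⟨n, x, hC, hn1, hnm, hx, h2x, hn⟩ := cent_shape P hP (by norm_num) (m := 927360)
    (by rw [hG.card]) (by norm_num) hN hto htC
  have hlt := centralizer_lt hG (t := t) fun h => by rw [h, orderOf_one] at hto; norm_num at hto
  have hd := hG.card ▸ card_subgroup_dvd_card (centralizer ({t} : Set G))
  have h23 : n % 23 ≠ 0 := by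
    intro h
    obtain ⟨y, hy⟩ := exists_prime_orderOf_dvd_card' (G := centralizer ({t} : Set G)) 23
      (hC ▸ dvd_mul_of_dvd_left (dvd_mul_of_dvd_right (Nat.dvd_of_mod_eq_zero h) 11) x)
    have hyo : orderOf (y : G) = 23 := by rw [Subgroup.orderOf_coe, hy]
    have h2 := Subgroup.orderOf_dvd_natCard (centralizer ({(y : G)} : Set G))
      (mem_centralizer_singleton_iff.2 (mem_centralizer_singleton_iff.1 y.2).symm)
    rw [(twentyThree hG y hyo).1, hto] at h2
    norm_num at h2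
  have hmem := mem_numsEleven n (mem_dvs [128, 9, 5, 7, 23] (by simp) (by simpa using hnm)) hn1 h23
  have hor : n = 1 ∨ 9856 % (11 * n * x) ≠ 0 := by
    by_cases h : 9856 % (11 * n * x) = 0
    · exact Or.inl (hn.trans (card_sylow_eleven_of_dvd hto (hC ▸ dvd_mul_of_dvd_left (dvd_mul_right 11 n) x)
        (hC ▸ Nat.dvd_of_mod_eq_zero h)))
    · exact Or.inr h
  rw [hC] at hlt hd ⊢
  refine List.mem_dedup.2 (List.mem_flatMap.2 ⟨n, hmem, List.mem_map.2 ⟨x, List.mem_filter.2
    ⟨List.mem_range.2 (Nat.lt_succ_of_le (Nat.le_of_dvd hR hx)), decide_eq_true ?_⟩, rfl⟩⟩)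
  exact ⟨Nat.pos_of_dvd_of_pos hx hR, Nat.mod_eq_zero_of_dvd hx, Nat.mod_eq_zero_of_dvd h2x, hlt,
    Nat.mod_eq_zero_of_dvd hd, hor⟩

/-- The principal block for an automiser of order two. -/
theorem block_two (hG : SG G) {hP : Nat.card P = 11} (B : PB G P hP 2) :
    ∃ χ ∈ B.X, χ ≠ CfsgLib.Char.irrOne ∧ B.X.erase CfsgLib.Char.irrOne = {χ} ∧ B.s χ = 1 ∧ B.ε = 1 ∧
      ((InvolChar.deg χ = 23 ∧ B.f = 24) ∨ (InvolChar.deg χ = 45 ∧ B.f = 46)) ∧
      ∀ ψ ∈ B.X ∪ B.Y, InvolChar.deg ψ = InvolChar.deg χ → ψ = χ := by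
  obtain ⟨h1X, hs1⟩ := B.one_X le_rfl (by norm_num)
  obtain ⟨χ, hχe⟩ := Finset.card_eq_one.1 (show (B.X.erase CfsgLib.Char.irrOne).card = 1 by
    rw [Finset.card_erase_of_mem h1X, B.card_X])
  obtain ⟨hne, hχ⟩ := Finset.mem_erase.1 (hχe ▸ Finset.mem_singleton_self χ)
  have hok : ∀ ψ : IrrCharacter G, ψ ≠ CfsgLib.Char.irrOne → okTwentyThree (InvolChar.deg ψ) = true :=
    fun ψ _ => okTwentyThree_of hG ψ
  obtain ⟨θ, hθ⟩ := B.Y_ne
  have hbig : ∀ ψ ∈ B.X, ψ ≠ CfsgLib.Char.irrOne → 2 * 11 < InvolChar.deg ψ := by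
    intro ψ hψ hψne
    by_contra hc
    have h12 := small_eleven _ (List.mem_range.2 (by omega)) (hG.two_le_deg hψne)
      (Nat.mod_eq_zero_of_dvd (hG.deg_dvd ψ)) (B.mod_X hψ) (hok ψ hψne)
    have hψχ : ψ = χ := Finset.mem_singleton.1 (hχe ▸ Finset.mem_erase.2 ⟨hψne, hψ⟩)
    subst hψχ
    have hrel := B.deg_rel hθ
    rw [← Finset.add_sum_erase _ _ h1X, hχe, Finset.sum_singleton, hs1, InvolChar.deg_irrOne,
      ← B.sgn_X (by norm_num) hψ, h12] at hrel
    norm_num [sgn] at hrel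
    have hd : B.f ∣ 10200960 := B.deg_Y θ hθ ▸ hG.deg_dvd θ
    have hf : B.f = 13 := by rcases B.ε_sq with e | e <;> rw [e] at hrel <;> omega
    rw [hf] at hd
    norm_num at hd
  obtain ⟨h3, h4, h5, h6, h7, h8, h9⟩ := odd_degrees hG B le_rfl (by norm_num) okTwentyThree hok hbig
  obtain ⟨l, hl, hlm, hf, he⟩ := mem_tuplesOdd _ h3 h4 B.ε_sq h5 h6 h7 B.deg_f h8 h9
  rw [hχe, Finset.singleton_val, Multiset.map_singleton] at hlm
  rw [degs_two_eleven, List.mem_cons, List.mem_singleton] at hl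
  have hdeg : (InvolChar.deg χ = 23 ∧ B.f = 24 ∧ B.ε = 1) ∨
      (InvolChar.deg χ = 45 ∧ B.f = 46 ∧ B.ε = 1) := by
    rcases hl with rfl | rfl <;> rw [Multiset.coe_singleton, Multiset.singleton_inj] at hlm <;>
      rw [← hf, ← he, ← hlm] <;> decide
  have hs : B.s χ = 1 := by
    rw [← B.sgn_X (by norm_num) hχ]
    rcases hdeg with ⟨h, -⟩ | ⟨h, -⟩ <;> rw [h] <;> decide
  refine ⟨χ, hχ, hne, hχe, hs, by tauto, by tauto, fun ψ hψ hd => ?_⟩
  rcases Finset.mem_union.1 hψ with h | h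
  · refine Finset.mem_singleton.1 (hχe ▸ Finset.mem_erase.2 ⟨fun h1 => ?_, h⟩)
    rw [h1, InvolChar.deg_irrOne] at hd
    omega
  · rw [B.deg_Y ψ h] at hd
    omega

/-- With an automiser of order two no element of order seven centralises `P`. -/
theorem not_seven_eleven (hG : SG G) {hP : Nat.card P = 11} (B : PB G P hP 2) {y : G} (hy : orderOf y = 7)
    (hyC : y ∈ centralizer ((P : Subgroup G) : Set G)) : False := by
  haveI := hG.simple
  obtain ⟨χ, hχ, hne, -, hs, -, hdeg, huniq⟩ := block_two hG B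
  obtain ⟨v, hv⟩ := exists_int_val B hχ huniq y
  obtain ⟨m, hm⟩ := mult_eq B hχ huniq (q := 7) (by norm_num) (by norm_num) hy hyC hv
  rw [hs] at hm
  have hy1 : y ≠ 1 := fun h => by rw [h, orderOf_one] at hy; norm_num at hy
  have hlt := CfsgLib.MTwelveUnique.sq_lt_deg_sq hG.not_comm χ hne hy1 hv
  rcases hdeg with ⟨h, -⟩ | ⟨h, -⟩ <;> rw [h] at hm hlt <;> push_cast at hm hlt
  · have h1 : v < 23 := by nlinarith
    have h2 : -23 < v := by nlinarith
    omega
  · have h1 : v < 45 := by nlinarith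
    have h2 : -45 < v := by nlinarith
    omega

/-- With an automiser of order two no involution centralises `P`. -/
theorem not_two_eleven (hG : SG G) {hP : Nat.card P = 11} (B : PB G P hP 2) {u : ℕ}
    (hu : (reg P).card = u) (hu' : u ∈ [360, 96, 30, 8]) {t : G} (ht : t * t = 1) (ht1 : t ≠ 1)
    (htC : t ∈ centralizer ((P : Subgroup G) : Set G)) : False := by
  obtain ⟨h1X, hs1⟩ := B.one_X le_rfl (by norm_num)
  obtain ⟨χ, hχ, hne, hχe, hs, hε, hdeg, -⟩ := block_two hG B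
  obtain ⟨hok, hdvd, -⟩ := val_facts hG B (by norm_num) ht ht1 htC (Finset.mem_union_left _ hχ) hne
  simp only [okVal, decide_eq_true_eq] at hok
  obtain ⟨r, hr, hT⟩ := B.exists_val (by norm_num) ht ht1
  have hone : intVal CfsgLib.Char.irrOne ht = 1 := intVal_irrOne ht
  rw [← Finset.add_sum_erase _ _ h1X, hχe, Finset.sum_singleton, hs1, hs, hone, hε, one_mul, one_mul,
    one_mul] at hT
  have hcount := B.count_eq P hP (by norm_num) ht r hr
  rw [PB.sg, hG.card, ← Finset.add_sum_erase _ _ h1X, hχe, Finset.sum_singleton, hs1, hs, hone, hε,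
    InvolChar.deg_irrOne, hu, hT] at hcount
  set v := intVal χ ht
  have hlt := hok.1
  set a : ℕ := (CfsgLib.MTwentyTwoUnique.FromOrder.invSet (pw P hP 1) t).card *
    Nat.card (centralizer ({t} : Set G))
  have key : ∀ S : ℕ, S ∈ [35777280, 9540608, 38162432] → (a : ℤ) * a = 11 * (u : ℤ) * S → False := by
    intro S hS h
    exact not_square_eleven u hu' S hS (Nat.exists_mul_self _ |>.1 ⟨a, by exact_mod_cast h⟩)
  rcases hdeg with ⟨h, hf⟩ | ⟨h, hf⟩ <;> rw [h, hf] at hcount <;> rw [h] at hdvd hlt <;>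
    push_cast at hdvd hlt
  · have h1 : v < 23 := by nlinarith
    have h2 : -23 < v := by nlinarith
    have hv : v = -21 := by omega
    rw [hv] at hcount
    exact key 35777280 (by simp) (by push_cast [a]; linear_combination hcount)
  · have h1 : v < 45 := by nlinarith
    have h2 : -45 < v := by nlinarith
    have hv : v = 1 ∨ v = -43 := by omega
    rcases hv with hv | hv <;> rw [hv] at hcount
    · exact key 9540608 (by simp) (by push_cast [a]; linear_combination hcount)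
    · exact key 38162432 (by simp) (by push_cast [a]; linear_combination hcount)

/-- In the symmetric block at 11 the degree 45 occurs, so the centraliser is small. -/
theorem mem_smallCents (hG : SG G) {hP : Nat.card P = 11} (B : PB G P hP 10) {R : ℕ}
    (h23R : ¬ 23 ∣ R) (hN : Nat.card (normalizer ((P : Subgroup G) : Set G)) = 11 * R) {t : G}
    (ht : t * t = 1) (ht1 : t ≠ 1) (hto : orderOf t = 2)
    (htC : t ∈ centralizer ((P : Subgroup G) : Set G)) :
    Nat.card (centralizer ({t} : Set G)) ∈ smallCents R := by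
  haveI : Fact (Nat.Prime 23) := ⟨by norm_num⟩
  set C := Nat.card (centralizer ({t} : Set G))
  obtain ⟨M, -, hcard, hdegs, hvals, -, hrel, -, -, -⟩ := full_data hG B rfl (by norm_num) ht ht1 htC
  obtain ⟨w, hw, h45⟩ : ∃ w ∈ M, w.1 = 45 := by
    by_contra! hc
    have key : ∀ N : Multiset (ℕ × ℤ), (∀ w ∈ N, w.1 ∈ degs 11 okTwentyThree ∧ w.1 ≠ 45) →
        ∃ a : ℕ, a ≤ N.card ∧ (23 : ℤ) ∣ (N.map fun w => sgn 11 w.1 * (w.1 : ℤ)).sum - a := by
      intro N
      induction N using Multiset.induction_on with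
      | empty => exact fun _ => ⟨0, le_rfl, by simp⟩
      | cons w N ih =>
        intro h
        obtain ⟨a, ha, hd⟩ := ih fun u hu => h u (Multiset.mem_cons_of_mem hu)
        obtain ⟨h1, h2⟩ := h w (Multiset.mem_cons_self w N)
        rw [Multiset.card_cons, Multiset.map_cons, Multiset.sum_cons]
        rcases (degs_eleven w.1 h1).resolve_left h2 with h3 | ⟨h3, h4⟩
        · refine ⟨a, by omega, ?_⟩
          rw [add_sub_assoc]
          exact dvd_add (dvd_mul_of_dvd_right (by omega) _) hd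
        · refine ⟨a + 1, by omega, ?_⟩
          rw [show sgn 11 w.1 = -1 by simp [sgn, h4]]
          push_cast
          omega
    obtain ⟨a, ha, hd⟩ := key M fun w hw =>
      ⟨hdegs okTwentyThree (fun χ _ => okTwentyThree_of hG χ) w hw, hc w hw⟩
    omega
  obtain ⟨hok, hmod⟩ := hvals w hw
  simp only [okVal, decide_eq_true_eq, h45] at hok
  rw [h45] at hmod
  push_cast at hok hmod
  obtain ⟨hlt, -, hdiv⟩ := hok
  have hv1 : w.2 < 45 := by nlinarith
  have hv2 : -45 < w.2 := by nlinarith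
  have h45C : 45 ∣ 10200960 / C := by
    rcases (by omega : w.2 = 1 ∨ w.2 = -43) with hv | hv <;> rw [hv] at hdiv
    · rw [mul_one] at hdiv
      exact Int.natCast_dvd_natCast.1 (by exact_mod_cast Int.dvd_of_emod_eq_zero hdiv)
    · exact Nat.Coprime.dvd_of_dvd_mul_right (by norm_num : Nat.Coprime 45 43)
        (Int.natCast_dvd_natCast.1 (by
          have := Int.dvd_of_emod_eq_zero hdiv
          rw [mul_neg, dvd_neg] at this
          push_cast
          exact this))
  have hd : C ∣ 10200960 := hG.card ▸ card_subgroup_dvd_card _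
  have hd2 : C ∣ 226688 := by
    obtain ⟨j, hj⟩ := h45C
    refine ⟨j, ?_⟩
    have h := Nat.div_mul_cancel hd
    rw [hj, mul_assoc, show (10200960 : ℕ) = 45 * 226688 by norm_num] at h
    rw [← Nat.eq_of_mul_eq_mul_left (by norm_num) h, mul_comm]
  obtain ⟨n, x, hC, hn1, hnm, hx, h2x, hn⟩ := cent_shape P hP (by norm_num) (m := 927360)
    (by rw [hG.card]) (by norm_num) hN hto htC
  have hC23 : ¬ 23 ∣ C := by
    intro h
    obtain ⟨y, hy⟩ := exists_prime_orderOf_dvd_card' (G := centralizer ({t} : Set G)) 23 h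
    have hyo : orderOf (y : G) = 23 := by rw [Subgroup.orderOf_coe, hy]
    have h2 := Subgroup.orderOf_dvd_natCard (centralizer ({(y : G)} : Set G))
      (mem_centralizer_singleton_iff.2 (mem_centralizer_singleton_iff.1 y.2).symm)
    rw [(twentyThree hG y hyo).1, hto] at h2
    norm_num at h2
  have h9856 : C ∣ 9856 :=
    Nat.Coprime.dvd_of_dvd_mul_right ((Nat.Prime.coprime_iff_not_dvd (by norm_num)).2 hC23).symm
      (show C ∣ 9856 * 23 by simpa using hd2)
  have hn' : n = 1 := hn.trans (card_sylow_eleven_of_dvd hto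
    (hC ▸ dvd_mul_of_dvd_left (dvd_mul_right 11 n) x) h9856)
  subst hn'
  have hC' : C = 11 * x := by rw [show C = 11 * 1 * x from hC]
  rw [hC'] at h9856
  have hx896 : x ∣ 896 := Nat.dvd_of_mul_dvd_mul_left (by norm_num : 0 < 11) h9856
  rw [hC']
  exact List.mem_map.2 ⟨x, List.mem_filter.2 ⟨mem_dvs [128, 7] (by simp) (by simpa using hx896),
    decide_eq_true ⟨Nat.mod_eq_zero_of_dvd h2x, Nat.mod_eq_zero_of_dvd hx⟩⟩, rfl⟩

/-- The Sylow 11-data. -/
theorem eleven (hG : SG G) (x : G) (hx : orderOf x = 11) :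
    Nat.card (centralizer ({x} : Set G)) = 11 ∧
      Nat.card (normalizer ((zpowers x : Subgroup G) : Set G)) = 55 := by
  haveI := hG.simple
  haveI : Fact (Nat.Prime 23) := ⟨by norm_num⟩
  haveI : Fact (Nat.Prime 7) := ⟨by norm_num⟩
  have hnG : Nat.card G = 11 * 927360 := by rw [hG.card]
  obtain ⟨P, hPx, hcx⟩ := exists_sylow_zpowers hnG (by norm_num) hx
  have hP := Band6232.card_of_prime hnG (by norm_num) P
  obtain ⟨k, r, u, hmem, -, hkru, hN, hC⟩ :=
    Band6232.options hG.not_comm hG.card (by norm_num) (by norm_num) P optsEleven optsEleven_ok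
  obtain ⟨hrel, hreg⟩ := relIndex_and_reg P hP hN hC
  have key : 23 ∣ u ∨ (r = 2 ∧ 7 ∣ u) ∨ (r = 2 ∧ u ∈ [360, 96, 30, 8]) ∨
      (r = 5 ∧ 2 ∣ u ∧ r * u ∈ [3360, 720, 280, 60]) ∨
      (r = 10 ∧ (r * u, u) ∈ [(3360, 336), (720, 72), (280, 28), (60, 6)]) ∨ (r = 5 ∧ u = 1) := by
    simp only [optsEleven, List.mem_cons, Prod.mk.injEq, List.not_mem_nil, or_false] at hmem
    simp only [List.mem_cons, Prod.mk.injEq, List.not_mem_nil, or_false]
    rcases hmem with ⟨rfl, rfl⟩ | ⟨rfl, rfl⟩ | ⟨rfl, rfl⟩ | ⟨rfl, rfl⟩ | ⟨rfl, rfl⟩ | ⟨rfl, rfl⟩ |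
      ⟨rfl, rfl⟩ | ⟨rfl, rfl⟩ | ⟨rfl, rfl⟩ | ⟨rfl, rfl⟩ | ⟨rfl, rfl⟩ | ⟨rfl, rfl⟩ | ⟨rfl, rfl⟩ | ⟨rfl, rfl⟩ |
      ⟨rfl, rfl⟩ | ⟨rfl, rfl⟩ | ⟨rfl, rfl⟩ | ⟨rfl, rfl⟩ | ⟨rfl, rfl⟩ | ⟨rfl, rfl⟩ | ⟨rfl, rfl⟩ | ⟨rfl, rfl⟩ |
      ⟨rfl, rfl⟩ | ⟨rfl, rfl⟩ | ⟨rfl, rfl⟩ | ⟨rfl, rfl⟩ | ⟨rfl, rfl⟩ <;> omega
  have hok : ∀ χ : IrrCharacter G, χ ≠ CfsgLib.Char.irrOne → okTwentyThree (InvolChar.deg χ) = true :=
    fun χ _ => okTwentyThree_of hG χ
  obtain ⟨B⟩ := exists_pb P hP r hrel
  rcases key with h23 | ⟨rfl, h7⟩ | ⟨rfl, hu⟩ | ⟨rfl, hu, hR⟩ | ⟨rfl, hR⟩ | ⟨rfl, rfl⟩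
  · obtain ⟨y, hyC, hyo⟩ := Band6232.exists_of_dvd_centralizer (q := 23) (by norm_num) hC
      (dvd_mul_of_dvd_right h23 11)
    have h := card_dvd_of_le (CfsgLib.MTwentyTwoUnique.FromOrder.sylow_le_centralizer P hyC)
    rw [hP, (twentyThree hG y hyo).1] at h
    norm_num at h
  · obtain ⟨y, hyC, hyo⟩ := Band6232.exists_of_dvd_centralizer (q := 7) (by norm_num) hC
      (dvd_mul_of_dvd_right h7 11)
    exact (not_seven_eleven hG B hyo hyC).elim
  · have hu2 : 2 ∣ u := by
      simp only [List.mem_cons, List.not_mem_nil, or_false] at hu; omega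
    obtain ⟨t, ht, ht1, -, htC, -⟩ := exists_involution P hP (by norm_num) hC hu2
    exact (not_two_eleven hG B hreg hu ht ht1 htC).elim
  · obtain ⟨t, ht, ht1, hto, htC, -⟩ := exists_involution P hP (by norm_num) hC hu
    have hR0 : 0 < 5 * u := by
      simp only [List.mem_cons, List.not_mem_nil, or_false] at hR; omega
    exact (false_of_deadOdd hG B (by norm_num) (by norm_num) hrel (by norm_num) dead_eleven_five hok ht ht1 htC
      (List.mem_flatMap.2 ⟨5 * u, hR, mem_centsEleven hG hP hR0 hN hto htC⟩)).elim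
  · have hu2 : 2 ∣ u ∧ 0 < 10 * u := by
      simp only [List.mem_cons, Prod.mk.injEq, List.not_mem_nil, or_false] at hR; omega
    obtain ⟨t, ht, ht1, hto, htC, -⟩ := exists_involution P hP (by norm_num) hC hu2.1
    have h23R : ¬ 23 ∣ 10 * u := by
      simp only [List.mem_cons, Prod.mk.injEq, List.not_mem_nil, or_false] at hR; omega
    exact absurd (excl_of_dfsFull hG B rfl (by norm_num) (dead_eleven_ten _ hR) hok ht ht1
      htC (mem_smallCents hG B h23R hN ht ht1 hto htC) (by rw [hreg]; simp)) (by simp)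
  · exact ⟨hcx ▸ hC, hPx ▸ hN⟩

omit [Fact (Nat.Prime 11)] in
/-- The facts at 23 and 11. -/
theorem top_of_order (hG : SG G) : Top G :=
  { hG with
    twentyThree := twentyThree hG
    eleven := fun x hx => by
      haveI : Fact (Nat.Prime 11) := ⟨by norm_num⟩
      exact eleven hG x hx }

end CfsgLib.MTwentyThreeUnique.FromOrder
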