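import Cfsg.Agent.Lib.MTwentyThreeUnique.FromOrder.Search
import Cfsg.Agent.Lib.MTwentyThreeUnique.FromOrder.Pairs
import Cfsg.Agent.Lib.SmallSimple.Band6232.Tools
import Mathlib

/-!
The finite data at 11 for a simple group of order 10200960.
-/

set_option autoImplicit false
set_option Elab.async false

namespace CfsgLib.MTwentyThreeUnique.FromOrder

open CfsgLib.MTwentyTwoUnique.FromOrder (dvs)
open CfsgLib.SmallSimple

/-- Sylow numbers and automiser orders at 11. -/
def optsEleven : List (ℕ × ℕ) :=
  [(144, 2), (144, 5), (144, 10), (210, 2), (276, 2), (276, 5), (276, 10), (320, 2), (672, 2), (672, 5),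
    (672, 10), (1035, 2), (1288, 2), (1288, 5), (1288, 10), (2520, 2), (3312, 2), (3312, 5), (3312, 10),
    (4830, 2), (7360, 2), (8064, 5), (15456, 2), (15456, 5), (15456, 10), (57960, 2), (185472, 5)]

set_option maxRecDepth 200000 in
theorem optsEleven_ok : Band6232.optsOK 11 927360 optsEleven = true := by decide +kernel

/-- The residues allowed modulo 23. -/
def okTwentyThree (d : ℕ) : Bool := decide (d % 23 ∈ [0, 1, 22, 11, 12])

/-- The Sylow numbers at 11 in an involution centraliser. -/
def numsEleven : List ℕ := [1, 12, 45, 56, 144, 210, 320, 672, 2520, 8064]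

theorem mem_numsEleven : ∀ k ∈ dvs [128, 9, 5, 7, 23], k % 11 = 1 → k % 23 ≠ 0 → k ∈ numsEleven := by
  decide +kernel

/-- The orders of involution centralisers for a normaliser of order `11 R`. -/
def centsEleven (R : ℕ) : List ℕ :=
  (numsEleven.flatMap fun n => ((List.range (R + 1)).filter fun x =>
    decide (0 < x ∧ R % x = 0 ∧ x % 2 = 0 ∧ 11 * n * x < 10200960 ∧ 10200960 % (11 * n * x) = 0 ∧
      (n = 1 ∨ 9856 % (11 * n * x) ≠ 0))).map fun x => 11 * n * x).dedup

theorem degs_two_eleven : tuplesOdd 11 2 okTwentyThree = [[45], [23]] := by decide +kernel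

theorem dead_eleven_five :
    deadOdd 11 5 okTwentyThree (([3360, 720, 280, 60] : List ℕ).flatMap centsEleven) = true := by
  decide +kernel

/-- The orders of involution centralisers dividing `9856` with a normal Sylow 11-subgroup. -/
def smallCents (R : ℕ) : List ℕ :=
  ((dvs [128, 7]).filter fun x => decide (x % 2 = 0 ∧ R % x = 0)).map (11 * ·)

theorem dead_eleven_ten :
    ∀ w ∈ ([(3360, 336), (720, 72), (280, 28), (60, 6)] : List (ℕ × ℕ)),
      dfsFull 11 okTwentyThree [w.2] (smallCents w.1) (fun _ => none) = true := by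
  decide +kernel

theorem degs_eleven : ∀ d ∈ degs 11 okTwentyThree, d = 45 ∨ d % 23 = 0 ∨ (d % 23 = 22 ∧ d % 11 ≠ 1) := by
  decide +kernel

theorem small_eleven : ∀ d ∈ List.range 23, 2 ≤ d → 10200960 % d = 0 → (d % 11 = 1 ∨ d % 11 = 10) →
    okTwentyThree d = true → d = 12 := by
  decide +kernel

theorem not_square_eleven : ∀ u ∈ [360, 96, 30, 8], ∀ S ∈ [35777280, 9540608, 38162432],
    Nat.sqrt (11 * u * S) * Nat.sqrt (11 * u * S) ≠ 11 * u * S := by
  decide +kernel

end CfsgLib.MTwentyThreeUnique.FromOrder
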