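import Cfsg.Agent.Lib.MTwentyThreeUnique.FromOrder.Degrees
import Mathlib

/-!
A simple group of order 10200960: the options at 5 and 7, and the principal block at 5.
-/

set_option autoImplicit false
set_option linter.style.haveILetI false
set_option linter.unusedSectionVars false

noncomputable section

open scoped Classical

namespace CfsgLib.MTwentyThreeUnique.FromOrder

open Subgroup CfsgLib.InvolChar CfsgLib.SmallGroups CfsgLib.SmallSimple CfsgLib.Blocks.PrimeSylow Cfsg
open CfsgLib.MTwentyTwoUnique (sgn sgn_eq)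
open CfsgLib.MTwentyTwoUnique.FromOrder (PB reg exists_pb exists_involution relIndex_and_reg dvs mem_dvs
  exists_sylow_zpowers sylow_le_centralizer)

/-- The degrees used at 5. -/
def okFive (d : ℕ) : Bool := okTen d && decide (d ≠ 126) && decide (d ≠ 644)

/-- The centraliser orders of an involution commuting with an element of order 5. -/
def centsFifth : List ℕ := (dvs [64, 9, 7]).map (10 * ·)

/-- The regular parts of `C(P)` to be excluded at 5. -/
def regFifth : List ℕ := [8, 18, 28, 48, 168, 288, 1008]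

theorem fifth_tuples :
    tuplesOdd 5 2 okTen = [] ∧
    (tuplesFull 5 okTen).all (fun L => L.contains 126 || (L.contains 644 && L.contains 896) ||
      decide (L = [231, 896, 896, 2024])) = true := by
  decide +kernel

theorem dead_fifth : deadFull 5 okFive regFifth centsFifth (fun _ => none) = true := by decide +kernel

theorem fifth_options : ∀ a ∈ dvs [128, 9, 7], ∀ r ∈ [2, 4], a % r = 0 → 2040192 / a % 5 = 1 →
    r = 2 ∨ a / r ∈ 3 :: 63 :: regFifth := by
  decide +kernel

theorem small_deg : ∀ d ∈ List.range 12, 2 ≤ d → 10200960 % d = 0 → okTen d = false := by decide +kernel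

variable {G : Type*} [Group G] [Fintype G]

namespace Top

variable (hT : Top G)
include hT

theorem twelve_le_deg {χ : IrrCharacter G} (h : χ ≠ CfsgLib.Char.irrOne) : 12 ≤ deg χ := by
  by_contra hc
  have := small_deg (deg χ) (List.mem_range.2 (by omega)) (hT.toSG.two_le_deg h)
    (Nat.mod_eq_zero_of_dvd (hT.toSG.deg_dvd χ))
  rw [hT.okTen_of χ] at this
  exact Bool.noConfusion this

/-- A prime with self-centralising Sylow subgroup divides no other centraliser. -/
theorem not_dvd_cent {y : G} {q : ℕ} (hy : y ≠ 1) (hq : q = 11 ∨ q = 23) (hyq : orderOf y ≠ q) :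
    ¬ q ∣ Nat.card (centralizer ({y} : Set G)) := by
  haveI : Fact q.Prime := ⟨by rcases hq with rfl | rfl <;> norm_num⟩
  intro h
  obtain ⟨c, hc⟩ := exists_prime_orderOf_dvd_card' (G := centralizer ({y} : Set G)) q h
  have hcG : orderOf (c : G) = q := by rw [Subgroup.orderOf_coe, hc]
  have hcard : Nat.card (centralizer ({(c : G)} : Set G)) = q := by
    rcases hq with rfl | rfl
    · exact (hT.eleven _ hcG).1
    · exact (hT.twentyThree _ hcG).1
  have hd := Subgroup.orderOf_dvd_natCard (s := centralizer ({(c : G)} : Set G))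
    (mem_centralizer_singleton_iff.mpr (mem_centralizer_singleton_iff.mp c.2).symm)
  rw [hcard] at hd
  rcases (Nat.dvd_prime (Fact.out : q.Prime)).mp hd with e | e
  · exact hy (orderOf_eq_one_iff.mp e)
  · exact hyq e

/-- The order of the centraliser of an element of order prime to 253. -/
theorem cent_dvd {y : G} (hy : y ≠ 1) (h11 : orderOf y ≠ 11) (h23 : orderOf y ≠ 23) :
    Nat.card (centralizer ({y} : Set G)) ∣ 40320 := by
  have hd : Nat.card (centralizer ({y} : Set G)) ∣ 40320 * (11 * 23) :=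
    (hT.card ▸ card_subgroup_dvd_card _ : _ ∣ 10200960).trans (by norm_num)
  refine (Nat.Coprime.dvd_mul_right ?_).mp hd
  exact Nat.Coprime.mul_right
    ((Nat.Prime.coprime_iff_not_dvd (by norm_num)).mpr (hT.not_dvd_cent hy (Or.inl rfl) h11)).symm
    ((Nat.Prime.coprime_iff_not_dvd (by norm_num)).mpr (hT.not_dvd_cent hy (Or.inr rfl) h23)).symm

/-- The orders of `N(P)` and `C(P)` at a small prime. -/
theorem local_options {p m : ℕ} [Fact p.Prime] (hm : p * m = 10200960) (hp : p < 11) (hpm : ¬ p ∣ m)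
    (L : List ℕ) (hL : ∀ n ∈ L, 0 < n) (hprod : L.prod * 253 = m) (P : Sylow p G) :
    ∃ r u : ℕ, r ∣ p - 1 ∧ 2 ≤ r ∧ r * u ∈ dvs L ∧ m / (r * u) % p = 1 ∧
      Nat.card (normalizer ((P : Subgroup G) : Set G)) = p * (r * u) ∧
      Nat.card (centralizer ((P : Subgroup G) : Set G)) = p * u := by
  haveI := hT.simple
  have hG := hT.toSG.notComm
  have hnG : Nat.card G = p * m := by rw [hT.card, hm]
  obtain ⟨k, c, -, -, hkp, hkc, hN, -⟩ :=
    AtMost1092.sylow_data hG (a := 1) (by rw [pow_one, hnG]) hpm one_ne_zero P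
  rw [pow_one] at hN
  obtain ⟨r, u, hr, hr1, hru, hC⟩ := AtMost1092.prime_data hG hnG hpm P hN
  subst hru
  have hp1 : 0 < p - 1 := Nat.sub_pos_of_lt (Fact.out : p.Prime).one_lt
  have hr0 := Nat.pos_of_dvd_of_pos hr hp1
  have hq : ∀ q : ℕ, q = 11 ∨ q = 23 → ¬ q ∣ r * u := by
    intro q hq h
    have hqP : q.Prime := by rcases hq with rfl | rfl <;> norm_num
    rcases hqP.dvd_mul.1 h with h | h
    · have := Nat.le_of_dvd hp1 (h.trans hr)
      omega
    · obtain ⟨y, hyC, hy⟩ := Band6232.exists_of_dvd_centralizer hqP hC (dvd_mul_of_dvd_right h p)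
      have hP : Nat.card (P : Subgroup G) = p := Band6232.card_of_prime hnG hpm P
      have h' := card_dvd_of_le (sylow_le_centralizer P hyC)
      have hcard : Nat.card (centralizer ({y} : Set G)) = q := by
        rcases hq with rfl | rfl
        · exact (hT.eleven _ hy).1
        · exact (hT.twentyThree _ hy).1
      rw [hP, hcard] at h'
      have := (Nat.prime_dvd_prime_iff_eq Fact.out hqP).mp h'
      omega
  refine ⟨r, u, hr, by omega, mem_dvs L hL ?_, ?_, hN, hC⟩
  · refine (Nat.Coprime.dvd_mul_right ?_).mp (hprod ▸ Dvd.intro_left k hkc)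
    exact Nat.Coprime.mul_right (k := r * u) (m := 11) (n := 23)
      ((Nat.Prime.coprime_iff_not_dvd (by norm_num)).mpr (hq 11 (Or.inl rfl))).symm
      ((Nat.Prime.coprime_iff_not_dvd (by norm_num)).mpr (hq 23 (Or.inr rfl))).symm
  · have hpos : 0 < r * u := Nat.pos_of_ne_zero fun h0 => hpm (by rw [← hkc, h0, mul_zero]; exact dvd_zero p)
    rw [← hkc, Nat.mul_div_cancel _ hpos]
    exact hkp

end Top

/-- The degrees of the symmetric block without an involution. -/
theorem full_degrees (hG : SG G) {p : ℕ} [hp : Fact p.Prime] {P : Sylow p G} {hP : Nat.card P = p} {e : ℕ}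
    (B : PB G P hP e) (he : e = p - 1) (hp5 : 5 ≤ p) {ok : ℕ → Bool}
    (hok : ∀ χ : IrrCharacter G, χ ≠ CfsgLib.Char.irrOne → ok (deg χ) = true)
    (hbig : ∀ χ : IrrCharacter G, χ ≠ CfsgLib.Char.irrOne → 2 * p < deg χ) :
    ∃ L ∈ tuplesFull p ok, (↑L : Multiset ℕ) = ((B.X ∪ B.Y).erase CfsgLib.Char.irrOne).val.map deg := by
  have hpe : ((e : ℕ) : ℤ) = (p : ℤ) - 1 := by omega
  obtain ⟨η, hη⟩ := Finset.card_eq_one.mp (show B.Y.card = 1 by
    rw [B.card_Y, he, Nat.div_self (by omega)])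
  have hηY : η ∈ B.Y := by simp [hη]
  have hη' : (p : ℤ) ∣ (deg η : ℤ) - -B.ε := by
    have h1 := B.deg_f
    rw [← B.deg_Y η hηY, hpe] at h1
    have h2 : (deg η : ℤ) - -B.ε = (deg η : ℤ) - B.ε * ((p : ℤ) - 1) + B.ε * p := by ring
    rw [h2]
    exact dvd_add h1 (dvd_mul_left _ _)
  have hsη : sgn p (deg η) = -B.ε := sgn_eq (by omega) (by rcases B.ε_sq with k | k <;> simp [k]) hη'
  have hdeg : ∑ χ ∈ B.X ∪ B.Y, sgn p (deg χ) * (deg χ : ℤ) = 0 := by
    have h := B.deg_rel hηY
    rw [← B.deg_Y η hηY] at h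
    rw [Finset.sum_union B.disj, hη, Finset.sum_singleton, hsη,
      Finset.sum_congr rfl fun χ hχ => by rw [B.sgn_X (by omega) hχ], ← h]
    ring
  have h1W : CfsgLib.Char.irrOne ∈ B.X ∪ B.Y := B.one_mem
  have hmod : ∀ χ ∈ B.X ∪ B.Y, deg χ % p = 1 ∨ deg χ % p = p - 1 := by
    intro χ hχ
    rcases Finset.mem_union.1 hχ with h | h
    · exact B.mod_X h
    · rw [hη, Finset.mem_singleton] at h
      subst h
      rcases B.ε_sq with k | k <;> rw [k] at hη'
      · right
        have h4 : ((deg χ % p : ℕ) : ℤ) = (-1) % p := by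
          push_cast
          exact Int.emod_eq_emod_iff_emod_sub_eq_zero.mpr (Int.emod_eq_zero_of_dvd hη')
        rw [show (-1 : ℤ) % (p : ℤ) = (p : ℤ) - 1 by
          rw [← Int.add_emod_right]
          exact (Int.emod_eq_of_lt (by omega) (by omega)).trans (by ring)] at h4
        omega
      · left
        have h4 : ((deg χ % p : ℕ) : ℤ) = (- -1) % p := by
          push_cast
          exact Int.emod_eq_emod_iff_emod_sub_eq_zero.mpr (Int.emod_eq_zero_of_dvd hη')
        rw [neg_neg, Int.emod_eq_of_lt (by omega) (by omega)] at h4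
        omega
  have hsq := hG.sum_sq_le (B.X ∪ B.Y)
  rw [← Finset.add_sum_erase _ _ h1W, deg_irrOne] at hsq
  obtain ⟨l, hl, hlm⟩ := CfsgLib.MTwentyTwoUnique.FromOrder.exists_mem_combos (degs p ok)
    (((B.X ∪ B.Y).erase CfsgLib.Char.irrOne).val.map deg) (p - 1) 10200959 (fun d hd => by
      obtain ⟨χ, hχ, rfl⟩ := Multiset.mem_map.1 hd
      obtain ⟨hne, hχW⟩ := Finset.mem_erase.1 (Finset.mem_def.2 hχ)
      refine List.mem_filter.2 ⟨List.mem_range.2 (hG.deg_lt χ), ?_⟩
      rw [Bool.and_eq_true, decide_eq_true_eq]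
      exact ⟨⟨hbig χ hne, Nat.mod_eq_zero_of_dvd (hG.deg_dvd χ), hmod χ hχW⟩, hok χ hne⟩)
    (by rw [Multiset.card_map, ← Finset.card_def, Finset.card_erase_of_mem h1W,
      Finset.card_union_of_disjoint B.disj, B.card_X, hη, Finset.card_singleton, he]; omega)
    (by rw [Multiset.map_map]; show ∑ χ ∈ (B.X ∪ B.Y).erase CfsgLib.Char.irrOne, deg χ * deg χ ≤ _; omega)
  refine ⟨l, List.mem_filter.2 ⟨hl, ?_⟩, hlm⟩
  rw [← Finset.add_sum_erase _ _ h1W, deg_irrOne,
    show sgn p 1 = 1 by simp [sgn, Nat.mod_eq_of_lt hp.out.one_lt]] at hdeg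
  rw [decide_eq_true_eq, ← Multiset.sum_coe, ← Multiset.map_coe, hlm, Multiset.map_map, ← hdeg]
  simp only [Nat.cast_one, mul_one]
  rfl

/-- The Sylow data at 5 up to two possibilities. -/
theorem fifth_data (hT : Top G) [Fact (Nat.Prime 5)] (P : Sylow 5 G) :
    ∃ u : ℕ, (u = 3 ∨ u = 63) ∧ Nat.card (normalizer ((P : Subgroup G) : Set G)) = 5 * (4 * u) ∧
      Nat.card (centralizer ((P : Subgroup G) : Set G)) = 5 * u ∧
      ∃ (hP : Nat.card (P : Subgroup G) = 5) (B : PB G P hP 4),
        ((B.X ∪ B.Y).erase CfsgLib.Char.irrOne).val.map deg = ([231, 896, 896, 2024] : Multiset ℕ) := by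
  haveI := hT.simple
  have hnG : Nat.card G = 5 * 2040192 := by rw [hT.card]
  have hP := Band6232.card_of_prime hnG (by norm_num) P
  obtain ⟨r, u, hr, hr2, hmem, hk, hN, hC⟩ :=
    hT.local_options (by norm_num : 5 * 2040192 = 10200960) (by norm_num) (by norm_num) [128, 9, 7]
      (by simp) (by norm_num) P
  obtain ⟨hrel, hreg⟩ := relIndex_and_reg P hP hN hC
  have hr' : r ∈ [2, 4] := by
    have := Nat.le_of_dvd (by norm_num) hr
    simp only [List.mem_cons, List.not_mem_nil, or_false]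
    interval_cases r <;> first | omega | norm_num at hr
  have hopt := fifth_options (r * u) hmem r hr' (Nat.mul_mod_right r u) hk
  obtain ⟨B⟩ := exists_pb P hP r hrel
  have hbig : ∀ χ : IrrCharacter G, χ ≠ CfsgLib.Char.irrOne → 2 * 5 < deg χ := fun χ h => by
    have := hT.twelve_le_deg h
    omega
  rcases eq_or_ne r 2 with rfl | hr4
  · exact (false_of_noTuples hT.toSG B le_rfl (by norm_num) fifth_tuples.1 (fun χ _ => hT.okTen_of χ)
      fun χ _ h => hbig χ h).elim
  obtain rfl : r = 4 := by simpa [hr4] using hr'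
  rw [Nat.mul_div_cancel_left _ (by norm_num)] at hopt
  obtain ⟨L, hL, hLm⟩ := full_degrees hT.toSG B rfl (by norm_num) (fun χ _ => hT.okTen_of χ) hbig
  have hex : ∀ d ∈ L, ∃ χ : IrrCharacter G, deg χ = d := fun d hd => by
    rw [← Multiset.mem_coe, hLm] at hd
    obtain ⟨χ, -, h⟩ := Multiset.mem_map.1 hd
    exact ⟨χ, h⟩
  have h := List.all_eq_true.1 fifth_tuples.2 L hL
  simp only [Bool.or_eq_true, Bool.and_eq_true, List.contains_iff_mem, decide_eq_true_eq] at h
  rcases h with (h | ⟨h, h'⟩) | rfl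
  · obtain ⟨χ, hχ⟩ := hex _ h
    exact (hT.deg_ne_126 χ hχ).elim
  · obtain ⟨χ, hχ⟩ := hex _ h
    obtain ⟨ψ, hψ⟩ := hex _ h'
    have := hT.exc11_eq (χ := χ) (ψ := ψ) (by rw [hχ]; norm_num) (by rw [hψ]; norm_num)
    omega
  obtain ⟨ψ, hψ⟩ := hex 896 (by simp)
  have hok : ∀ χ : IrrCharacter G, χ ≠ CfsgLib.Char.irrOne → okFive (deg χ) = true := fun χ _ => by
    simp only [okFive, hT.okTen_of χ, Bool.true_and, Bool.and_eq_true, decide_eq_true_eq]
    refine ⟨hT.deg_ne_126 χ, fun h => ?_⟩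
    have := hT.exc11_eq (χ := χ) (ψ := ψ) (by rw [h]; norm_num) (by rw [hψ]; norm_num)
    omega
  refine ⟨u, ?_, hN, hC, hP, B, hLm.symm⟩
  rcases hopt with h | h
  · norm_num at h
  by_contra hu
  rw [List.mem_cons, List.mem_cons] at h
  have hu' : u ∈ regFifth := (h.resolve_left fun e => hu (Or.inl e)).resolve_left fun e => hu (Or.inr e)
  have hu2 : 2 ∣ u := by
    simp only [regFifth, List.mem_cons, List.not_mem_nil, or_false] at hu'
    omega
  obtain ⟨t, ht, ht1, hto, htC, h10⟩ := exists_involution P hP (by norm_num) hC hu2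
  have hd := hT.cent_dvd ht1 (by omega) (by omega)
  obtain ⟨j, hj⟩ := h10
  have hCt : Nat.card (centralizer ({t} : Set G)) ∈ centsFifth := by
    rw [hj] at hd ⊢
    exact List.mem_map.2 ⟨j, mem_dvs [64, 9, 7] (by simp)
      (Nat.dvd_of_mul_dvd_mul_left (by norm_num : 0 < 10) (hd.trans (by norm_num))), by norm_num⟩
  have := (excl_of_deadFull hT.toSG B rfl (by norm_num) dead_fifth hok ht ht1 htC hCt
    (hreg ▸ hu'))
  simp at this

end CfsgLib.MTwentyThreeUnique.FromOrder
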