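import Cfsg.Agent.Lib.MTwentyThreeUnique.FromOrder.Seventh
import Cfsg.Agent.Lib.Invol.Dihedral
import Mathlib

/-!
A simple group of order 10200960: the involutions inverting an element of order five form one class, so
all involutions are conjugate.
-/

set_option autoImplicit false
set_option linter.style.haveILetI false
set_option linter.unusedSectionVars false

noncomputable section

open scoped Classical

namespace CfsgLib.MTwentyThreeUnique.FromOrder

open Subgroup CfsgLib.InvolChar CfsgLib.SmallGroups CfsgLib.SmallSimple CfsgLib.Blocks.PrimeSylow Cfsg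
open CfsgLib.MTwentyTwoUnique.FromOrder (reg mem_reg one_mem_reg invSet mem_invSet exists_pw_mul
  relIndex_and_reg)

variable {G : Type*} [Group G] [Fintype G]

theorem zmod_five_cases : ∀ i : ZMod 5, i ≠ 0 → i ≠ 2 → i ∈ ({1, 3, 4} : Finset (ZMod 5)) := by
  decide

theorem zmod_five_two : ((2 : ZMod 5).val : ZMod 5) * 2 + 1 = 0 := by decide

theorem pw_nat {p : ℕ} [Fact p.Prime] (P : Sylow p G) (hP : Nat.card P = p) (i : ZMod p) :
    pw P hP i = pw P hP 1 ^ i.val := by
  rw [pw_pow, ZMod.natCast_zmod_val, mul_one]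

/-- A two-element centralising a Sylow 5-subgroup with centraliser of order 15 is trivial. -/
theorem eq_one_of_two_pow [Fact (Nat.Prime 5)] (P : Sylow 5 G)
    (hC : Nat.card (centralizer ((P : Subgroup G) : Set G)) = 5 * 3) {g : G} {k : ℕ}
    (hg : g ∈ centralizer ((P : Subgroup G) : Set G)) (h2 : g ^ 2 ^ k = 1) : g = 1 := by
  have h15 := Subgroup.orderOf_dvd_natCard _ hg
  rw [hC] at h15
  have h := orderOf_dvd_of_pow_eq_one h2
  refine orderOf_eq_one_iff.1 (Nat.dvd_one.1 ?_)
  have hc : Nat.Coprime (2 ^ k) (5 * 3) := Nat.Coprime.pow_left _ (by norm_num)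
  rw [← hc.gcd_eq_one]
  exact Nat.dvd_gcd h h15

/-- An element normalising `P` whose square inverts `P`. -/
theorem exists_sq_inverts [Fact (Nat.Prime 5)] (P : Sylow 5 G) (hP : Nat.card P = 5)
    (hN : Nat.card (normalizer ((P : Subgroup G) : Set G)) = 5 * (4 * 3))
    (hC : Nat.card (centralizer ((P : Subgroup G) : Set G)) = 5 * 3) :
    ∃ g ∈ normalizer ((P : Subgroup G) : Set G), g * g * pw P hP 1 * (g * g)⁻¹ = (pw P hP 1)⁻¹ := by
  haveI : Fact (Nat.Prime 2) := ⟨Nat.prime_two⟩
  set N := normalizer ((P : Subgroup G) : Set G)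
  set x := pw P hP (1 : ZMod 5) with hx
  obtain ⟨T⟩ : Nonempty (Sylow 2 N) := inferInstance
  have hT : Nat.card (T : Subgroup N) = 4 := by
    simpa using card_sylow_eq (show Nat.card N = 2 ^ 2 * 15 by rw [hN]; norm_num) (by norm_num) T
  have h4 : ∀ w : (T : Subgroup N), ((w : N) : G) ^ 2 ^ 2 = 1 := fun w => by
    have h := pow_card_eq_one' (x := w)
    rw [hT] at h
    exact congrArg (fun z : (T : Subgroup N) => ((z : N) : G)) h
  -- the action on `P`
  have hpow : ∀ a ∈ N, ∃ i : ZMod 5, a * x * a⁻¹ = pw P hP i := fun a ha => by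
    obtain ⟨i, hi⟩ := pw_surjOn P hP ((mem_normalizer_iff.1 ha x).1 (pw_mem P hP 1))
    exact ⟨i, hi.symm⟩
  choose ix hix using hpow
  have hxC : ∀ g : G, g * x * g⁻¹ = x → g ∈ centralizer ((P : Subgroup G) : Set G) := fun g h => by
    rw [← centralizer_pw P hP (one_ne_zero : (1 : ZMod 5) ≠ 0), mem_centralizer_singleton_iff]
    exact mul_inv_eq_iff_eq_mul.1 h
  have hinj : ∀ w w' : (T : Subgroup N), ix _ (w : N).2 = ix _ (w' : N).2 → w = w' := by
    intro w w' h
    have h1 := hix _ (w : N).2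
    have h2 := hix _ (w' : N).2
    rw [h, ← h2] at h1
    have h3 := hxC (((w'⁻¹ * w : (T : Subgroup N)) : N) : G) (by
      simp only [Subgroup.coe_mul, InvMemClass.coe_inv]
      calc ((w' : N) : G)⁻¹ * (w : N) * x * (((w' : N) : G)⁻¹ * (w : N))⁻¹
          = ((w' : N) : G)⁻¹ * (((w : N) : G) * x * ((w : N) : G)⁻¹) * ((w' : N) : G) := by group
        _ = x := by rw [h1]; group)
    have h5 := eq_one_of_two_pow P hC h3 (h4 (w'⁻¹ * w))
    have h6 : w'⁻¹ * w = 1 := Subtype.ext (Subtype.ext h5)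
    exact (inv_mul_eq_one.1 h6).symm
  have hne0 : ∀ w : (T : Subgroup N), ix _ (w : N).2 ≠ 0 := fun w h => by
    have h1 := hix _ (w : N).2
    rw [h, pw_zero] at h1
    have h2 : x = 1 := conj_eq_one_iff.1 h1
    exact (one_ne_zero : (1 : ZMod 5) ≠ 0) ((pw_eq_one_iff P hP).1 h2)
  -- four distinct non-zero images: one of them is two
  obtain ⟨w, hw⟩ : ∃ w : (T : Subgroup N), ix _ (w : N).2 = 2 := by
    by_contra hno
    push Not at hno
    let e : ↥(T : Subgroup N) → ({1, 3, 4} : Finset (ZMod 5)) := fun w => ⟨ix _ (w : N).2, by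
      have h0 := hne0 w
      have h2 := hno w
      exact zmod_five_cases _ h0 h2⟩
    have h := Nat.card_le_card_of_injective e fun a b h => hinj a b (congrArg Subtype.val h)
    rw [hT, Nat.card_eq_fintype_card, Fintype.card_coe] at h
    have h3 := Finset.card_le_three (a := (1 : ZMod 5)) (b := 3) (c := 4)
    omega
  refine ⟨(w : N), (w : N).2, ?_⟩
  have h1 := hix _ (w : N).2
  rw [hw] at h1
  set g : G := ((w : N) : G)
  calc g * g * x * (g * g)⁻¹ = g * (g * x * g⁻¹) * g⁻¹ := by group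
    _ = g * x ^ (2 : ZMod 5).val * g⁻¹ := by rw [h1, pw_nat P hP 2]
    _ = pw P hP 2 ^ (2 : ZMod 5).val := by rw [← conj_pow, h1]
    _ = x⁻¹ := by
      rw [pw_pow, inv_eq_of_mul_eq_one_left (a := pw P hP (((2 : ZMod 5).val : ZMod 5) * 2)) (by
        rw [hx, ← pw_add, zmod_five_two, pw_zero])]

/-- Two involutions inverting `P` differ by an element of `P`. -/
theorem conj_of_inverts [Fact (Nat.Prime 5)] (P : Sylow 5 G) (hP : Nat.card P = 5)
    (hN : Nat.card (normalizer ((P : Subgroup G) : Set G)) = 5 * (4 * 3))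
    (hC : Nat.card (centralizer ((P : Subgroup G) : Set G)) = 5 * 3) {a b : G} (ha : orderOf a = 2)
    (hb : orderOf b = 2) (hax : a * pw P hP 1 * a⁻¹ = (pw P hP 1)⁻¹)
    (hbx : b * pw P hP 1 * b⁻¹ = (pw P hP 1)⁻¹) : IsConj a b := by
  obtain ⟨g, hg, hgx⟩ := exists_sq_inverts P hP hN hC
  set x := pw P hP (1 : ZMod 5)
  set C := centralizer ((P : Subgroup G) : Set G) with hCd
  obtain ⟨-, hreg⟩ := relIndex_and_reg P hP hN hC
  have haa : a * a = 1 := by have := pow_orderOf_eq_one a; rwa [ha, sq] at this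
  have hbb : b * b = 1 := by have := pow_orderOf_eq_one b; rwa [hb, sq] at this
  have hai : a⁻¹ = a := inv_eq_of_mul_eq_one_left haa
  have hbi : b⁻¹ = b := inv_eq_of_mul_eq_one_left hbb
  have hCmem : ∀ u v : G, u * x * u⁻¹ = x⁻¹ → v * x * v⁻¹ = x⁻¹ → u * v ∈ C := fun u v hu hv => by
    rw [hCd, ← centralizer_pw P hP (one_ne_zero : (1 : ZMod 5) ≠ 0), mem_centralizer_singleton_iff]
    refine mul_inv_eq_iff_eq_mul.1 ?_
    calc u * v * x * (u * v)⁻¹ = u * (v * x * v⁻¹) * u⁻¹ := by group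
      _ = (u * x * u⁻¹)⁻¹ := by rw [hv]; group
      _ = x := by rw [hu, inv_inv]
  have habC : a * b ∈ C := hCmem a b hax hbx
  set r := (a * b) ^ 5 with hr
  have hr3 : r ^ 3 = 1 := by
    rw [hr, ← pow_mul]
    exact orderOf_dvd_iff_pow_eq_one.1 (hC ▸ Subgroup.orderOf_dvd_natCard _ habC)
  have hrC : r ∈ C := pow_mem habC 5
  -- `r` is inverted by `a`
  have hinv : a * r * a⁻¹ = r⁻¹ := by
    rw [hr, ← conj_pow, ← inv_pow, mul_inv_rev, hai, hbi, ← mul_assoc, haa, one_mul]
  -- and centralised by it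
  have hmem : ∀ y ∈ C, y ^ 3 = 1 → y ∈ reg P := fun y hy hy3 => (mem_reg P).2 ⟨hy, fun h => by
    have := Nat.le_of_dvd (by norm_num) (h.trans (orderOf_dvd_of_pow_eq_one hy3))
    omega⟩
  by_cases hr1 : r = 1
  · have hodd : Odd (orderOf (a * b)) := by
      have h5 := orderOf_dvd_of_pow_eq_one (hr ▸ hr1)
      rcases (Nat.dvd_prime (Fact.out : Nat.Prime 5)).1 h5 with h | h <;> rw [h] <;> decide
    obtain ⟨d, -, hd⟩ := CfsgLib.Invol.exists_conj_of_odd ha hb hodd
    exact isConj_iff.2 ⟨d, hd⟩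
  exfalso
  have hro : orderOf r = 3 := orderOf_eq_prime hr3 hr1
  have hr2 : r ^ 2 ≠ 1 := fun h => by
    have := Nat.le_of_dvd (by norm_num) (orderOf_dvd_of_pow_eq_one h)
    omega
  have hr21 : r ^ 2 ≠ r := fun h => hr1 (by rwa [sq, mul_eq_right] at h)
  have hreg3 : reg P = {1, r, r ^ 2} := by
    refine (Finset.eq_of_subset_of_card_le ?_ ?_).symm
    · intro y hy
      simp only [Finset.mem_insert, Finset.mem_singleton] at hy
      rcases hy with rfl | rfl | rfl
      · exact one_mem_reg P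
      · exact hmem _ hrC hr3
      · exact hmem _ (pow_mem hrC 2) (by rw [← pow_mul, mul_comm, pow_mul, hr3, one_pow])
    · rw [hreg, Finset.card_insert_of_notMem, Finset.card_pair hr21.symm]
      simp only [Finset.mem_insert, Finset.mem_singleton, not_or]
      exact ⟨fun h => hr1 h.symm, fun h => hr2 h.symm⟩
  have hCnorm : ∀ w ∈ normalizer ((P : Subgroup G) : Set G), ∀ y ∈ C, w * y * w⁻¹ ∈ C := fun w hw y hy => by
    haveI : (C.subgroupOf (normalizer ((P : Subgroup G) : Set G))).Normal := by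
      rw [hCd, ← Subgroup.normalizerMonoidHom_ker]; exact MonoidHom.normal_ker _
    exact (Subgroup.Normal.conj_mem (H := C.subgroupOf (normalizer ((P : Subgroup G) : Set G)))
      inferInstance ⟨y, centralizer_le_normalizer _ hy⟩ hy ⟨w, hw⟩ : _)
  have hg2 : g * g * r * (g * g)⁻¹ = r := by
    have h := hmem _ (hCnorm g hg r hrC) (by rw [conj_pow, hr3, mul_one, mul_inv_cancel])
    rw [hreg3] at h
    simp only [Finset.mem_insert, Finset.mem_singleton] at h
    calc g * g * r * (g * g)⁻¹ = g * (g * r * g⁻¹) * g⁻¹ := by group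
      _ = r := by
        rcases h with h | h | h
        · exact absurd (conj_eq_one_iff.1 h) hr1
        · rw [h, h]
        · rw [h, ← conj_pow, h, ← pow_mul, show 2 * 2 = 3 + 1 from rfl, pow_succ, hr3, one_mul]
  -- `a g²` centralises `x`, hence `r`
  obtain ⟨i, z, hz, hd⟩ := exists_pw_mul P hP (hCmem a (g * g) hax hgx)
  have hcomm : Commute (a * (g * g)) r := by
    rw [hd]
    refine Commute.mul_left ((CfsgLib.MTwentyTwoUnique.FromOrder.commute_pw P hP hrC i)) ?_
    rw [hreg3] at hz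
    simp only [Finset.mem_insert, Finset.mem_singleton] at hz
    rcases hz with rfl | rfl | rfl
    · exact Commute.one_left r
    · exact Commute.refl r
    · exact (Commute.refl r).pow_left 2
  have har : a * r * a⁻¹ = r := by
    calc a * r * a⁻¹ = a * (g * g * r * (g * g)⁻¹) * a⁻¹ := by rw [hg2]
      _ = a * (g * g) * r * (a * (g * g))⁻¹ := by group
      _ = r := by rw [hcomm.eq, mul_inv_cancel_right]
  rw [hinv] at har
  refine hr2 ?_
  rw [sq]
  nth_rewrite 1 [← har]
  exact inv_mul_cancel r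

/-- All involutions are conjugate. -/
theorem one_class (hT : Top G) [Fact (Nat.Prime 5)]
    (h5 : ∀ Q : Sylow 5 G, Nat.card (normalizer ((Q : Subgroup G) : Set G)) = 5 * (4 * 3) ∧
      Nat.card (centralizer ((Q : Subgroup G) : Set G)) = 5 * 3) {s t : G} (hs : orderOf s = 2)
    (ht : orderOf t = 2) : IsConj s t := by
  obtain ⟨Q⟩ : Nonempty (Sylow 5 G) := inferInstance
  obtain ⟨u, -, hNu, hCu, hQ, B, hdeg⟩ := fifth_data hT Q
  obtain ⟨hN, hC⟩ := h5 Q
  have hex : ∀ w : G, orderOf w = 2 → ∃ a, IsConj w a ∧ orderOf a = 2 ∧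
      a * pw Q hQ 1 * a⁻¹ = (pw Q hQ 1)⁻¹ := by
    intro w hw
    have hww : w * w = 1 := by have := pow_orderOf_eq_one w; rwa [hw, sq] at this
    have hw1 : w ≠ 1 := fun h => by rw [h, orderOf_one] at hw; norm_num at hw
    obtain ⟨A, B', C', D, hA, hB, hC', hD, -, hrel, hcount⟩ := fifth_eq hT.toSG B hdeg hww hw1
    by_contra hno
    push Not at hno
    have hemp : invSet (pw Q hQ 1) w = ∅ := Finset.eq_empty_of_forall_notMem fun a ha => by
      obtain ⟨h1, h2⟩ := mem_invSet.1 ha
      refine hno a h1 ?_ h2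
      obtain ⟨k, rfl⟩ := isConj_iff.1 h1
      rw [show k * w * k⁻¹ = MulAut.conj k w by simp, MulEquiv.orderOf_eq, hw]
    rw [hemp, Finset.card_empty, Nat.cast_zero, zero_mul, zero_mul, eq_comm, mul_eq_zero] at hcount
    have hS := hcount.resolve_left (mul_ne_zero (by norm_num)
      (by exact_mod_cast (Finset.card_pos.mpr ⟨1, one_mem_reg Q⟩).ne'))
    rw [show intVal D hww = 1 + intVal A hww + intVal B' hww + intVal C' hww by linarith] at hS
    have hAne : A ≠ CfsgLib.Char.irrOne := fun e => by rw [e, deg_irrOne] at hA; norm_num at hA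
    obtain ⟨hva, -⟩ := val_any hT.toSG hAne hww hw1
    simp only [okVal, decide_eq_true_eq] at hva
    rw [hA] at hva
    have ha1 : intVal A hww < 231 := by
      push_cast at hva
      nlinarith [hva.1]
    set a := intVal A hww
    set b := intVal B' hww
    set c := intVal C' hww
    nlinarith [sq_nonneg (a - 231), sq_nonneg (b - 896), sq_nonneg (c - 896), sq_nonneg (896 * a - 231 * b),
      sq_nonneg (896 * a - 231 * c), sq_nonneg (b - c)]
  obtain ⟨a, hsa, ha, hax⟩ := hex s hs
  obtain ⟨b, htb, hb, hbx⟩ := hex t ht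
  exact hsa.trans ((conj_of_inverts Q hQ hN hC ha hb hax hbx).trans htb.symm)

end CfsgLib.MTwentyThreeUnique.FromOrder
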