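import Cfsg.Agent.Lib.MTwentyThreeUnique.FromOrder.Fifth
import Cfsg.Agent.Lib.MTwentyTwoUnique.FromOrder.SevenBase
import Mathlib

/-!
A simple group of order 10200960: the principal block at 7.
-/

set_option autoImplicit false
set_option linter.style.haveILetI false
set_option linter.unusedSectionVars false

noncomputable section

open scoped Classical

namespace CfsgLib.MTwentyThreeUnique.FromOrder

open Subgroup CfsgLib.InvolChar CfsgLib.SmallGroups CfsgLib.SmallSimple CfsgLib.Blocks.PrimeSylow Cfsg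
open CfsgLib.MTwentyTwoUnique (sgn SC exists_sc)
open CfsgLib.MTwentyTwoUnique.FromOrder (PB reg exists_pb exists_involution relIndex_and_reg dvs mem_dvs
  sylow_le_centralizer invSet invSet_eq_empty one_mem_reg exists_lift fOf eOf)

/-- The degrees left by the block at 5. -/
def okSeventh (d : ℕ) : Bool :=
  okTen d && (decide (d % 11 = 0) || decide (d ∈ [1, 45, 230, 483, 896, 1035, 1288]))

/-- The regular parts of `C(P)` with full automiser to be excluded at 7. -/
def regSeventh : List ℕ := [8, 64, 120, 960]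

/-- The centraliser orders of an involution commuting with an element of order 7. -/
def centsSeventh : List ℕ := (dvs [64, 9, 5]).map (14 * ·)

/-- The orders left for the centraliser of an involution. -/
def fourCents : List ℕ := [2016, 2688, 4032, 8064]

theorem seventh_options : ∀ a ∈ dvs [128, 9, 5], ∀ r ∈ [2, 3, 6], a % r = 0 → 1457280 / a % 7 = 1 →
    r = 2 ∨ (r = 3 ∧ a / r % 2 = 0 ∧ (a / r % 5 = 0 ∨ a / r ∈ [2, 16, 128])) ∨
      (r = 6 ∧ a / r ∈ 1 :: 15 :: regSeventh) := by
  decide +kernel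

theorem seventh_small : ∀ d ∈ List.range 15, 2 ≤ d → 10200960 % d = 0 → okSeventh d = false := by
  decide +kernel

theorem seventh_tuples : tuplesOdd 7 2 okSeventh = [] ∧
    (tuplesOdd 7 3 okSeventh).all (fun L =>
      decide ((L, fOf 7 L, eOf 7 L) ∈
        [([22, 22], 45, (1 : ℤ)), ([22, 1035], 1012, (-1 : ℤ)), ([1035, 2024], 990, (1 : ℤ))])) = true := by
  decide +kernel

theorem dead_seventh : deadFull 7 okSeventh regSeventh centsSeventh (fun _ => none) = true := by
  decide +kernel

/-- The values on the surviving block. -/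
def chkSeventh (C : ℕ) : Bool :=
  (vals 7 C 1035).all fun a => (vals 7 C 2024).all fun b =>
    decide ((C : ℤ) < 1 + a * a + b * b + 2 * ((1 - a + b) * (1 - a + b))) ||
      decide (10200960 - 9856 * (a * a) + 5040 * (b * b) - 10304 * ((1 - a + b) * (1 - a + b)) ≠ (0 : ℤ)) ||
      (decide (C ∈ fourCents) && decide (b = 8))

theorem seventh_search : centsSeventh.all chkSeventh = true := by decide +kernel

/-- The values at the same involution on the block at 5. -/
def chkFifth (C : ℕ) : Bool :=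
  (List.range 181).all fun i => (List.range 181).all fun j =>
    let b : ℤ := (i : ℤ) - 90
    let c : ℤ := (j : ℤ) - 90
    let a : ℤ := 7 - b - c
    !(okVal C 896 b) || !(okVal C 896 c) || !(okVal C 231 a) || decide ((231 - a) % 4 ≠ 0) ||
      (decide (C = 2688) && decide (a = 7 ∧ b = 0 ∧ c = 0))

theorem fifth_search : fourCents.all chkFifth = true := by decide +kernel

variable {G : Type*} [Group G] [Fintype G]

/-- The conditions on the value of any non-trivial character at an involution. -/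
theorem val_any (hG : SG G) {χ : IrrCharacter G} (hne : χ ≠ CfsgLib.Char.irrOne) {t : G} (ht : t * t = 1)
    (ht1 : t ≠ 1) :
    okVal (Nat.card (centralizer ({t} : Set G))) (deg χ) (intVal χ ht) = true ∧
      (4 : ℤ) ∣ (deg χ : ℤ) - intVal χ ht := by
  haveI := hG.simple
  have hmod := CfsgLib.MTwelveUnique.deg_dvd_index_mul χ (intVal_spec χ ht)
    (h := Nat.card (centralizer ({t} : Set G))) rfl
  rw [hG.card] at hmod
  refine ⟨?_, CfsgLib.SmallGroups.PrimeRational.four_dvd_deg_sub hG.linear_trivial χ ht⟩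
  simp only [okVal, decide_eq_true_eq]
  refine ⟨CfsgLib.MTwelveUnique.sq_lt_deg_sq hG.not_comm χ hne ht1 (intVal_spec χ ht), ?_, hmod⟩
  rw [← CfsgLib.MTwelveUnique.sum_sq_val (fun χ => intVal χ ht) (fun χ => intVal_spec χ ht)]
  exact Finset.single_le_sum (f := fun χ => intVal χ ht * intVal χ ht)
    (fun χ _ => mul_self_nonneg _) (Finset.mem_univ χ)

theorem sum_list {α M : Type*} [AddCommMonoid M] {s : Finset α} {L : List α} (h : (↑L : Multiset α) = s.val)
    (F : α → M) : ∑ a ∈ s, F a = (L.map F).sum := by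
  rw [Finset.sum_eq_multiset_sum, ← h, Multiset.map_coe, Multiset.sum_coe]

/-- The block at 5 at any involution. -/
theorem fifth_eq (hG : SG G) [Fact (Nat.Prime 5)] {P : Sylow 5 G} {hP : Nat.card P = 5} (B : PB G P hP 4)
    (hdeg : ((B.X ∪ B.Y).erase CfsgLib.Char.irrOne).val.map deg = ([231, 896, 896, 2024] : Multiset ℕ))
    {t : G} (ht : t * t = 1) (ht1 : t ≠ 1) :
    ∃ A B' C' D : IrrCharacter G, deg A = 231 ∧ deg B' = 896 ∧ deg C' = 896 ∧ deg D = 2024 ∧
      (([A, B', C', D] : List (IrrCharacter G)) : Multiset (IrrCharacter G)) =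
        ((B.X ∪ B.Y).erase CfsgLib.Char.irrOne).val ∧
      1 + intVal A ht + intVal B' ht + intVal C' ht - intVal D ht = 0 ∧
      ((invSet (pw P hP 1) t).card : ℤ) * (invSet (pw P hP 1) t).card *
          ((Nat.card (centralizer ({t} : Set G)) : ℤ) * Nat.card (centralizer ({t} : Set G))) =
        5 * ((reg P).card : ℤ) * (10200960 + 44160 * (intVal A ht * intVal A ht) +
          11385 * (intVal B' ht * intVal B' ht) + 11385 * (intVal C' ht * intVal C' ht) -
          5040 * (intVal D ht * intVal D ht)) := by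
  set W := B.X ∪ B.Y with hW
  obtain ⟨L, hL, hLW⟩ := exists_lift deg [231, 896, 896, 2024] (W.erase CfsgLib.Char.irrOne).val hdeg
  obtain ⟨A, B', C', D, rfl⟩ : ∃ A B' C' D, L = [A, B', C', D] := by
    rcases L with _ | ⟨a, _ | ⟨b, _ | ⟨c, _ | ⟨d, _ | ⟨e, r⟩⟩⟩⟩⟩ <;> simp at hL
    exact ⟨a, b, c, d, rfl⟩
  simp only [List.map_cons, List.map_nil, List.cons.injEq, and_true] at hL
  obtain ⟨hA, hB, hC, hD⟩ := hL
  obtain ⟨η, hη⟩ := Finset.card_eq_one.mp (show B.Y.card = 1 by rw [B.card_Y])
  have hηY : η ∈ B.Y := by simp [hη]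
  have hsη : sgn 5 (deg η) = -B.ε := CfsgLib.MTwentyTwoUnique.sgn_eq (by norm_num)
    (by rcases B.ε_sq with k | k <;> simp [k]) (by
      have h1 := B.deg_f
      rw [← B.deg_Y η hηY] at h1
      obtain ⟨k, hk⟩ := h1
      exact ⟨k + B.ε, by push_cast at hk ⊢; linarith⟩)
  have h1W : CfsgLib.Char.irrOne ∈ W := B.one_mem
  have hto : ¬ 5 ∣ orderOf t := by
    rw [orderOf_eq_prime (p := 2) (by rw [sq]; exact ht) ht1]
    norm_num
  have hone : intVal CfsgLib.Char.irrOne ht = 1 := intVal_irrOne ht
  obtain ⟨r, hr, hrel⟩ := B.exists_val (by norm_num) ht ht1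
  have hT : ∑ χ ∈ W, sgn 5 (deg χ) * intVal χ ht = 0 := by
    rw [hW, Finset.sum_union B.disj, hη, Finset.sum_singleton, hsη, hr η hηY,
      Finset.sum_congr rfl fun χ hχ => by rw [B.sgn_X (by norm_num) hχ], ← hrel]
    ring
  have hcount := B.count_eq P hP (by norm_num) ht r hr
  have hsg : B.sg P hP ht r =
      ∑ χ ∈ W, sgn 5 (deg χ) * intVal χ ht * intVal χ ht * ((10200960 / deg χ : ℕ) : ℤ) := by
    rw [PB.sg, hG.card, hW, Finset.sum_union B.disj, hη, Finset.sum_singleton, hsη, hr η hηY,
      B.deg_Y η hηY]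
    rw [Finset.sum_congr rfl (f := fun χ => sgn 5 (deg χ) * intVal χ ht * intVal χ ht *
        ((10200960 / deg χ : ℕ) : ℤ)) (g := fun χ => B.s χ * intVal χ ht * intVal χ ht *
        ((10200960 / deg χ : ℕ) : ℤ)) fun χ hχ => by rw [B.sgn_X (by norm_num) hχ]]
    ring
  have hs : sgn 5 1 = 1 ∧ sgn 5 231 = 1 ∧ sgn 5 896 = 1 ∧ sgn 5 2024 = -1 := by decide
  rw [hsg, ← Finset.add_sum_erase _ _ h1W, sum_list hLW] at hcount
  rw [← Finset.add_sum_erase _ _ h1W, sum_list hLW] at hT
  simp only [List.map_cons, List.map_nil, List.sum_cons, List.sum_nil, deg_irrOne, hone, hA, hB, hC, hD,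
    hs.1, hs.2.1, hs.2.2.1, hs.2.2.2, add_zero] at hT hcount
  norm_num [-Nat.card_eq_fintype_card] at hcount
  refine ⟨A, B', C', D, hA, hB, hC, hD, hLW, by linarith, ?_⟩
  rw [hcount]
  ring

/-- What the block at 5 leaves. -/
theorem seventh_ok (hT : Top G) [Fact (Nat.Prime 5)] (χ : IrrCharacter G) : okSeventh (deg χ) = true := by
  obtain ⟨Q⟩ : Nonempty (Sylow 5 G) := inferInstance
  obtain ⟨u, -, -, -, hQ, B, hdeg⟩ := fifth_data hT Q
  have h : (896 : ℕ) ∈ ((B.X ∪ B.Y).erase CfsgLib.Char.irrOne).val.map deg := by rw [hdeg]; simp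
  obtain ⟨θ, -, hθ⟩ := Multiset.mem_map.1 h
  simp only [okSeventh, hT.okTen_of χ, Bool.true_and, Bool.or_eq_true, decide_eq_true_eq]
  rcases hT.deg_of_896 hθ χ with h | h
  · exact Or.inl (Nat.mod_eq_zero_of_dvd h)
  · exact Or.inr h

/-- A degree 45 occurs. -/
theorem exists_deg_45 (hT : Top G) [Fact (Nat.Prime 5)] : ∃ χ : IrrCharacter G, deg χ = 45 := by
  obtain ⟨Q⟩ : Nonempty (Sylow 5 G) := inferInstance
  obtain ⟨u, -, -, -, hQ, B, hdeg⟩ := fifth_data hT Q
  have h : (896 : ℕ) ∈ ((B.X ∪ B.Y).erase CfsgLib.Char.irrOne).val.map deg := by rw [hdeg]; simp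
  obtain ⟨θ, -, hθ⟩ := Multiset.mem_map.1 h
  obtain ⟨L, hL, -, hex⟩ := hT.exists_tupleEleven (f := 896) (by norm_num) hθ
  rw [tuples_large.1, List.mem_cons, List.mem_singleton] at hL
  rcases hL with rfl | rfl <;> exact hex 45 (by simp)

/-- The normaliser at 7 has automiser of order three. -/
theorem seventh_options' (hT : Top G) [Fact (Nat.Prime 5)] [Fact (Nat.Prime 7)] (P : Sylow 7 G) :
    ∃ u : ℕ, 2 ∣ u ∧ (5 ∣ u ∨ u ∈ [2, 16, 128]) ∧
      Nat.card (normalizer ((P : Subgroup G) : Set G)) = 7 * (3 * u) ∧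
      Nat.card (centralizer ((P : Subgroup G) : Set G)) = 7 * u ∧
      ∃ hP : Nat.card (P : Subgroup G) = 7, Nonempty (PB G P hP 3) := by
  haveI := hT.simple
  have hnG : Nat.card G = 7 * 1457280 := by rw [hT.card]
  have hP := Band6232.card_of_prime hnG (by norm_num) P
  obtain ⟨r, u, hr, hr2, hmem, hk, hN, hC⟩ :=
    hT.local_options (by norm_num : 7 * 1457280 = 10200960) (by norm_num) (by norm_num) [128, 9, 5]
      (by simp) (by norm_num) P
  obtain ⟨hrel, hreg⟩ := relIndex_and_reg P hP hN hC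
  have hr' : r ∈ [2, 3, 6] := by
    have := Nat.le_of_dvd (by norm_num) hr
    simp only [List.mem_cons, List.not_mem_nil, or_false]
    interval_cases r <;> first | omega | norm_num at hr
  have hopt := seventh_options (r * u) hmem r hr' (Nat.mul_mod_right r u) hk
  have hbig : ∀ χ : IrrCharacter G, χ ≠ CfsgLib.Char.irrOne → 2 * 7 < deg χ := fun χ h => by
    by_contra hc
    have := seventh_small (deg χ) (List.mem_range.2 (by omega)) (hT.toSG.two_le_deg h)
      (Nat.mod_eq_zero_of_dvd (hT.toSG.deg_dvd χ))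
    rw [seventh_ok hT χ] at this
    exact Bool.noConfusion this
  obtain ⟨B⟩ := exists_pb P hP r hrel
  rcases hopt with rfl | ⟨rfl, h2, h5⟩ | ⟨rfl, hu⟩
  · exact (false_of_noTuples hT.toSG B le_rfl (by norm_num) seventh_tuples.1 (fun χ _ => seventh_ok hT χ)
      fun χ _ h => hbig χ h).elim
  · rw [Nat.mul_div_cancel_left _ (by norm_num)] at h2 h5
    refine ⟨u, Nat.dvd_of_mod_eq_zero h2, ?_, hN, hC, hP, ⟨B⟩⟩
    exact h5.imp Nat.dvd_of_mod_eq_zero id
  exfalso
  rw [Nat.mul_div_cancel_left _ (by norm_num)] at hu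
  rw [List.mem_cons, List.mem_cons] at hu
  rcases hu with rfl | rfl | hu
  · -- self-centralising: 45 is no degree of the principal block
    obtain ⟨χ, hχ⟩ := exists_deg_45 hT
    obtain ⟨S⟩ := exists_sc P hP (by rw [hC]) 6 hrel
    rcases Finset.mem_union.1 (S.mem_of_not_dvd (χ := χ) (by rw [hχ]; norm_num)) with h | h
    · have h1 := S.deg_X χ h
      rw [hχ] at h1
      rcases S.s_sq χ h with e | e <;> rw [e] at h1 <;> norm_num at h1
    · have h1 := S.deg_f
      rw [← S.deg_Y χ h, hχ] at h1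
      rcases S.ε_sq with e | e <;> rw [e] at h1 <;> norm_num at h1
  · -- a Sylow subgroup of order 5 in `C(P)`
    obtain ⟨y, hyC, hy⟩ := Band6232.exists_of_dvd_centralizer (q := 5) (by norm_num) hC (by norm_num)
    have hnG5 : Nat.card G = 5 * 2040192 := by rw [hT.card]
    obtain ⟨Q, hQy, hcy⟩ := CfsgLib.MTwentyTwoUnique.FromOrder.exists_sylow_zpowers hnG5 (by norm_num) hy
    have hQ : Nat.card (Q : Subgroup G) = 5 := by rw [hQy, Nat.card_zpowers, hy]
    obtain ⟨v, hv, hNQ, hCQ, -⟩ := fifth_data hT Q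
    set C := centralizer ((P : Subgroup G) : Set G) with hCdef
    have hQC : (Q : Subgroup G) ≤ C := by rw [hQy]; exact zpowers_le.2 hyC
    -- `Q` is the only Sylow 5-subgroup of `C`
    have hCN : C ≤ normalizer ((Q : Subgroup G) : Set G) := by
      have hPN : (P : Subgroup G) ≤ normalizer ((Q : Subgroup G) : Set G) := by
        refine le_trans ?_ (centralizer_le_normalizer _)
        rw [← hcy]
        exact sylow_le_centralizer P hyC
      have h7 := card_dvd_of_le (le_inf hPN (le_centralizer P hP :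
        (P : Subgroup G) ≤ C) : (P : Subgroup G) ≤ normalizer ((Q : Subgroup G) : Set G) ⊓ C)
      have h5 := card_dvd_of_le (le_inf le_normalizer hQC :
        (Q : Subgroup G) ≤ normalizer ((Q : Subgroup G) : Set G) ⊓ C)
      rw [hP] at h7
      rw [hQ] at h5
      have hH := SylowLocal.card_eq_mul_inf Q hQC
      rw [hC] at hH
      have h1 := card_sylow_modEq_one 5 C
      obtain ⟨j, hj⟩ := (Nat.Coprime.mul_dvd_of_dvd_of_dvd (by norm_num : Nat.Coprime 7 5) h7 h5)
      rw [hj] at hH
      have hn : Nat.card (Sylow 5 C) * j = 3 := by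
        refine Nat.eq_of_mul_eq_mul_left (by norm_num : 0 < 35) ?_
        calc 35 * (Nat.card (Sylow 5 C) * j) = Nat.card (Sylow 5 C) * (7 * 5 * j) := by ring
          _ = 35 * 3 := by rw [← hH]
      have hn3 := (Nat.dvd_prime Nat.prime_three).1 (Dvd.intro j hn)
      unfold Nat.ModEq at h1
      rcases hn3 with h | h
      · have : Nat.card C ≤ Nat.card (normalizer ((Q : Subgroup G) : Set G) ⊓ C : Subgroup G) := by
          rw [hj, hC]
          rw [h, one_mul] at hn
          omega
        exact (eq_of_le_of_card_ge inf_le_right this).symm.le.trans inf_le_left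
      · rw [h] at h1
        norm_num at h1
    have hNle : normalizer ((P : Subgroup G) : Set G) ≤ normalizer ((Q : Subgroup G) : Set G) := by
      intro a ha
      obtain ⟨c, hc, hca⟩ := CfsgLib.MTwentyTwoUnique.FromOrder.exists_mul_mem_normalizer Q hQC (a := a)
        fun x hx => by
          haveI : (C.subgroupOf (normalizer ((P : Subgroup G) : Set G))).Normal := by
            rw [hCdef, ← Subgroup.normalizerMonoidHom_ker]; exact MonoidHom.normal_ker _
          exact (Subgroup.Normal.conj_mem (H := C.subgroupOf (normalizer ((P : Subgroup G) : Set G)))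
            inferInstance ⟨x, centralizer_le_normalizer _ (hQC hx)⟩ (hQC hx) ⟨a, ha⟩ : _)
      simpa using mul_mem (inv_mem (hCN hc)) hca
    have hH := SylowLocal.card_eq_mul_inf P (le_trans le_normalizer hNle :
      (P : Subgroup G) ≤ normalizer ((Q : Subgroup G) : Set G))
    rw [inf_eq_left.2 hNle, hN, hNQ] at hH
    have h1 := card_sylow_modEq_one 7 (normalizer ((Q : Subgroup G) : Set G))
    unfold Nat.ModEq at h1
    rcases hv with rfl | rfl <;> omega
  · have hu2 : 2 ∣ u := by
      simp only [regSeventh, List.mem_cons, List.not_mem_nil, or_false] at hu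
      omega
    obtain ⟨t, ht, ht1, hto, htC, h14⟩ := exists_involution P hP (by norm_num) hC hu2
    have hd := hT.cent_dvd ht1 (by omega) (by omega)
    obtain ⟨j, hj⟩ := h14
    have hCt : Nat.card (centralizer ({t} : Set G)) ∈ centsSeventh := by
      rw [hj] at hd ⊢
      exact List.mem_map.2 ⟨j, mem_dvs [64, 9, 5] (by simp)
        (Nat.dvd_of_mul_dvd_mul_left (by norm_num : 0 < 14) (hd.trans (by norm_num))), by norm_num⟩
    have := excl_of_deadFull hT.toSG B rfl (by norm_num) dead_seventh (fun χ _ => seventh_ok hT χ) ht ht1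
      htC hCt (hreg ▸ hu)
    simp at this

/-- The values in the block at 7 at an involution centralising `P`. -/
theorem seventh_vals (hT : Top G) [Fact (Nat.Prime 5)] [Fact (Nat.Prime 7)] {P : Sylow 7 G}
    {hP : Nat.card P = 7} (B : PB G P hP 3)
    (hrel : (centralizer ((P : Subgroup G) : Set G)).relIndex (normalizer ((P : Subgroup G) : Set G)) = 3)
    {t : G} (ht : t * t = 1) (ht1 : t ≠ 1) (htC : t ∈ centralizer ((P : Subgroup G) : Set G)) :
    Nat.card (centralizer ({t} : Set G)) ∈ fourCents ∧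
      ∃ b E : IrrCharacter G, deg b = 2024 ∧ intVal b ht = 8 ∧ deg E = 1035 ∧
        ∀ θ ∈ B.Y, deg θ = 990 := by
  have hbig : ∀ χ ∈ B.X, χ ≠ CfsgLib.Char.irrOne → 2 * 7 < deg χ := fun χ hχ hne =>
    (val_facts hT.toSG B (by norm_num) ht ht1 htC (Finset.mem_union_left _ hχ) hne).2.2
  obtain ⟨h3, h4, h5, h6, h7, h8, h9⟩ :=
    odd_degrees hT.toSG B (by norm_num) (by norm_num) okSeventh (fun χ _ => seventh_ok hT χ) hbig
  obtain ⟨l, hl, hlm, hf, hε⟩ := mem_tuplesOdd _ h3 h4 B.ε_sq h5 h6 h7 B.deg_f h8 h9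
  have hmem := List.all_eq_true.1 seventh_tuples.2 l hl
  rw [decide_eq_true_eq, hf, hε] at hmem
  obtain ⟨L, hLd, hLX⟩ := exists_lift deg l (B.X.erase CfsgLib.Char.irrOne).val hlm.symm
  obtain ⟨h1X, hs1⟩ := B.one_X (by norm_num : 2 ≤ 3) (by norm_num)
  obtain ⟨θ, hθ⟩ := B.Y_ne
  obtain ⟨r, hr, hrr⟩ := B.exists_val (by norm_num) ht ht1
  have hone : intVal CfsgLib.Char.irrOne ht = 1 := intVal_irrOne ht
  have hd14 : 14 ∣ Nat.card (centralizer ({t} : Set G)) := by
    have h2 : orderOf t = 2 := orderOf_eq_prime (by rw [sq]; exact ht) ht1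
    refine Nat.Coprime.mul_dvd_of_dvd_of_dvd (by norm_num : Nat.Coprime 2 7) ?_ ?_
    · exact h2 ▸ Subgroup.orderOf_dvd_natCard _ (mem_centralizer_singleton_iff.2 rfl)
    · exact hP ▸ card_dvd_of_le (sylow_le_centralizer P htC)
  have hto : orderOf t = 2 := orderOf_eq_prime (by rw [sq]; exact ht) ht1
  have hd := hT.cent_dvd ht1 (by omega) (by omega)
  have hCt : Nat.card (centralizer ({t} : Set G)) ∈ centsSeventh := by
    obtain ⟨j, hj⟩ := hd14
    rw [hj] at hd ⊢
    exact List.mem_map.2 ⟨j, mem_dvs [64, 9, 5] (by simp)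
      (Nat.dvd_of_mul_dvd_mul_left (by norm_num : 0 < 14) (hd.trans (by norm_num))), by norm_num⟩
  have hnorm := B.norm_le ht
  rw [← Finset.add_sum_erase _ _ h1X, hone, sum_list hLX,
    Finset.sum_congr rfl (s₁ := B.Y) fun θ hθ => by rw [hr θ hθ], Finset.sum_const, B.card_Y,
    nsmul_eq_mul] at hnorm
  rw [← Finset.add_sum_erase _ _ h1X, hs1, hone, sum_list hLX] at hrr
  have hsX : ∀ χ ∈ L, B.s χ = sgn 7 (deg χ) ∧
      okVal (Nat.card (centralizer ({t} : Set G))) (deg χ) (intVal χ ht) = true ∧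
      ((4 * 7 : ℕ) : ℤ) ∣ (deg χ : ℤ) - intVal χ ht := fun χ hχ => by
    have hχ' : χ ∈ B.X.erase CfsgLib.Char.irrOne := by
      rw [Finset.mem_def, ← hLX]
      exact hχ
    obtain ⟨hne, hχX⟩ := Finset.mem_erase.1 hχ'
    have := val_facts hT.toSG B (by norm_num) ht ht1 htC (Finset.mem_union_left _ hχX) hne
    exact ⟨(B.sgn_X (by norm_num) hχX).symm, this.1, this.2.1⟩
  have heq := B.count_eq P hP (by norm_num) ht r hr
  rw [invSet_eq_empty hrel (by norm_num) (by norm_num) t, Finset.card_empty, Nat.cast_zero, zero_mul,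
    zero_mul, eq_comm, mul_eq_zero] at heq
  have hsg := heq.resolve_left (mul_ne_zero (by norm_num)
    (by exact_mod_cast (Finset.card_pos.mpr ⟨1, one_mem_reg P⟩).ne'))
  rw [PB.sg, hT.card, ← Finset.add_sum_erase _ _ h1X, hs1, hone, deg_irrOne, sum_list hLX] at hsg
  simp only [List.mem_cons, Prod.mk.injEq, List.not_mem_nil, or_false] at hmem
  rcases L with _ | ⟨a, _ | ⟨b, _ | ⟨c, w⟩⟩⟩ <;>
    (try (rcases hmem with ⟨h, -, -⟩ | ⟨h, -, -⟩ | ⟨h, -, -⟩ <;> (subst h; simp at hLd); done))
  obtain ⟨hsa, hva, hda⟩ := hsX a (by simp)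
  obtain ⟨hsb, hvb, hdb⟩ := hsX b (by simp)
  simp only [List.map_cons, List.map_nil, List.sum_cons, List.sum_nil, add_zero, hsa, hsb] at hnorm hrr hsg
  rcases hmem with ⟨rfl, hBf, hBe⟩ | ⟨rfl, hBf, hBe⟩ | ⟨rfl, hBf, hBe⟩ <;>
    simp only [List.map_cons, List.map_nil, List.cons.injEq, and_true] at hLd <;>
    obtain ⟨ha, hb⟩ := hLd <;> rw [hBe] at hrr hsg <;> rw [hBf] at hsg <;>
    rw [ha, hb] at hrr hsg <;> rw [ha] at hva hda <;> rw [hb] at hvb hdb <;>
    norm_num [sgn, -Nat.card_eq_fintype_card] at hrr hsg hnorm hda hdb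
  · exfalso
    simp only [okVal, decide_eq_true_eq, Nat.cast_ofNat] at hva hvb
    have ha' : intVal a ht = -6 := by
      have : -22 < intVal a ht ∧ intVal a ht < 22 := by
        constructor <;> nlinarith [hva.1]
      omega
    have hb' : intVal b ht = -6 := by
      have : -22 < intVal b ht ∧ intVal b ht < 22 := by
        constructor <;> nlinarith [hvb.1]
      omega
    rw [ha', hb'] at hrr hsg
    subst hrr
    omega
  · exfalso
    simp only [okVal, decide_eq_true_eq, Nat.cast_ofNat] at hva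
    have ha' : intVal a ht = -6 := by
      have : -22 < intVal a ht ∧ intVal a ht < 22 := by
        constructor <;> nlinarith [hva.1]
      omega
    rw [ha'] at hrr hsg
    obtain rfl : r = 5 + intVal b ht := by linarith
    nlinarith [sq_nonneg (intVal b ht + 225)]
  · obtain rfl : r = 1 - intVal a ht + intVal b ht := by linarith
    have h := List.all_eq_true.1 seventh_search _ hCt
    simp only [chkSeventh, List.all_eq_true, Bool.or_eq_true, Bool.and_eq_true, decide_eq_true_eq] at h
    have h' := h _ (mem_vals (by norm_num) hva (by simpa using hda)) _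
      (mem_vals (by norm_num) hvb (by simpa using hdb))
    rcases h' with (h' | h') | ⟨h1, h2⟩
    · linarith
    · exact absurd (by linarith) h'
    · exact ⟨h1, b, a, hb, h2, ha, fun η hη => (B.deg_Y η hη).trans hBf⟩

/-- Every involution centralising a Sylow 7-subgroup has centraliser of order 2688, and the Sylow
5-subgroups have centralisers of order 15. -/
theorem seventh_data (hT : Top G) [Fact (Nat.Prime 5)] [Fact (Nat.Prime 7)] (P : Sylow 7 G) :
    ∃ u : ℕ, u ∈ [2, 16, 128] ∧ Nat.card (normalizer ((P : Subgroup G) : Set G)) = 7 * (3 * u) ∧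
      Nat.card (centralizer ((P : Subgroup G) : Set G)) = 7 * u ∧
      (∀ t ∈ centralizer ((P : Subgroup G) : Set G), orderOf t = 2 →
        Nat.card (centralizer ({t} : Set G)) = 2688) ∧
      ∀ Q : Sylow 5 G, Nat.card (normalizer ((Q : Subgroup G) : Set G)) = 5 * (4 * 3) ∧
        Nat.card (centralizer ((Q : Subgroup G) : Set G)) = 5 * 3 := by
  haveI := hT.simple
  obtain ⟨u, hu2, hu, hN, hC, hP, ⟨B⟩⟩ := seventh_options' hT P
  obtain ⟨hrel, -⟩ := relIndex_and_reg P hP hN hC
  have key : ∀ t ∈ centralizer ((P : Subgroup G) : Set G), orderOf t = 2 →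
      Nat.card (centralizer ({t} : Set G)) = 2688 ∧
      ∀ Q : Sylow 5 G, Nat.card (normalizer ((Q : Subgroup G) : Set G)) = 5 * (4 * 3) ∧
        Nat.card (centralizer ((Q : Subgroup G) : Set G)) = 5 * 3 := by
    intro t htC hto
    have h2 := pow_orderOf_eq_one t
    rw [hto, sq] at h2
    have ht1 : t ≠ 1 := fun h => by rw [h, orderOf_one] at hto; norm_num at hto
    obtain ⟨hC4, b, E, hb, hvb, hE, hY⟩ := seventh_vals hT B hrel h2 ht1 htC
    have hQall : ∀ Q : Sylow 5 G, Nat.card (centralizer ({t} : Set G)) = 2688 ∧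
        Nat.card (normalizer ((Q : Subgroup G) : Set G)) = 5 * (4 * 3) ∧
        Nat.card (centralizer ((Q : Subgroup G) : Set G)) = 5 * 3 := by
      intro Q
      obtain ⟨v, hv, hNQ, hCQ, hQ, B5, hdeg⟩ := fifth_data hT Q
      obtain ⟨-, hreg⟩ := relIndex_and_reg Q hQ hNQ hCQ
      obtain ⟨A, B', C', D, hA, hB, hC', hD, hlist, hrel5, hcount⟩ := fifth_eq hT.toSG B5 hdeg h2 ht1
      -- the two characters of degree 2024 coincide
      have hbD : b = D := by
        by_contra hne
        set W := (B5.X ∪ B5.Y).erase CfsgLib.Char.irrOne with hWd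
        have hWsum : ∑ χ ∈ W, deg χ * deg χ = 5755569 := by
          rw [sum_list hlist, List.map_cons, List.map_cons, List.map_cons, List.map_cons, hA, hB, hC', hD]
          norm_num
        have hin : ∀ χ ∈ W, χ = A ∨ χ = B' ∨ χ = C' ∨ χ = D := fun χ hχ => by
          rw [Finset.mem_def, ← hlist] at hχ
          simpa using hχ
        have hdis : Disjoint W (insert b (insert E B.Y)) := by
          rw [Finset.disjoint_left]
          intro χ hχ hχ'
          simp only [Finset.mem_insert] at hχ'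
          rcases hχ' with rfl | rfl | h
          · rcases hin _ hχ with e | e | e | e
            · rw [e, hA] at hb; norm_num at hb
            · rw [e, hB] at hb; norm_num at hb
            · rw [e, hC'] at hb; norm_num at hb
            · exact hne e
          · rcases hin _ hχ with e | e | e | e <;> rw [e] at hE <;> omega
          · have := hY χ h
            rcases hin _ hχ with e | e | e | e <;> rw [e] at this <;> omega
        have hsq := hT.toSG.sum_sq_le (W ∪ insert b (insert E B.Y))
        have hbE : b ∉ insert E B.Y := by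
          intro h
          rcases Finset.mem_insert.1 h with e | e
          · rw [e, hE] at hb; norm_num at hb
          · rw [hY b e] at hb; norm_num at hb
        have hEY : E ∉ B.Y := fun e => by rw [hY E e] at hE; norm_num at hE
        rw [Finset.sum_union hdis, hWsum, Finset.sum_insert hbE, Finset.sum_insert hEY,
          Finset.sum_congr rfl (s₁ := B.Y) fun θ hθ => by rw [hY θ hθ], Finset.sum_const, B.card_Y, hb, hE]
          at hsq
        norm_num at hsq
      rw [hbD] at hvb
      rw [hvb] at hrel5 hcount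
      have hne : ∀ χ ∈ [A, B', C'], χ ≠ CfsgLib.Char.irrOne := fun χ hχ e => by
        subst e
        simp only [List.mem_cons, List.not_mem_nil, or_false] at hχ
        rcases hχ with e | e | e
        · rw [← e, deg_irrOne] at hA; omega
        · rw [← e, deg_irrOne] at hB; omega
        · rw [← e, deg_irrOne] at hC'; omega
      obtain ⟨hvA, h4A⟩ := val_any hT.toSG (hne A (by simp)) h2 ht1
      obtain ⟨hvB, -⟩ := val_any hT.toSG (hne B' (by simp)) h2 ht1
      obtain ⟨hvC, -⟩ := val_any hT.toSG (hne C' (by simp)) h2 ht1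
      rw [hA] at hvA h4A
      rw [hB] at hvB
      rw [hC'] at hvC
      have hbound : ∀ {d : ℕ} {x : ℤ}, okVal (Nat.card (centralizer ({t} : Set G))) d x = true →
          -90 ≤ x ∧ x ≤ 90 := fun {d x} h => by
        simp only [okVal, decide_eq_true_eq] at h
        have hle : (Nat.card (centralizer ({t} : Set G)) : ℤ) ≤ 8064 := by
          simp only [fourCents, List.mem_cons, List.not_mem_nil, or_false] at hC4
          omega
        constructor <;> nlinarith [h.2.1]
      obtain ⟨b1, b2⟩ := hbound hvB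
      obtain ⟨c1, c2⟩ := hbound hvC
      have h := List.all_eq_true.1 fifth_search _ hC4
      simp only [chkFifth, List.all_eq_true, List.mem_range, Bool.or_eq_true, Bool.and_eq_true,
        Bool.not_eq_true', decide_eq_true_eq] at h
      have h' := h (intVal B' h2 + 90).toNat (by omega) (intVal C' h2 + 90).toNat (by omega)
      rw [show (((intVal B' h2 + 90).toNat : ℤ)) - 90 = intVal B' h2 by omega,
        show (((intVal C' h2 + 90).toNat : ℤ)) - 90 = intVal C' h2 by omega,
        show (7 : ℤ) - intVal B' h2 - intVal C' h2 = intVal A h2 by omega] at h'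
      rw [hvA, hvB, hvC] at h'
      simp only [Bool.true_eq_false, false_or] at h'
      obtain ⟨hC2688, ha7, hb0, hc0⟩ := h'.resolve_left (by
        obtain ⟨k, hk⟩ := h4A
        push_cast at hk
        omega)
      refine ⟨hC2688, ?_⟩
      rcases hv with rfl | rfl
      · exact ⟨hNQ, hCQ⟩
      exfalso
      rw [hreg, hC2688, ha7, hb0, hc0] at hcount
      set A' := (invSet (pw Q hQ 1) t).card
      norm_num [-Nat.card_eq_fintype_card] at hcount
      have hA' : (A' : ℤ) * A' = 525 := by linarith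
      have h22 : A' ≤ 22 := by nlinarith
      have hA'' : A' * A' = 525 := by exact_mod_cast hA'
      interval_cases A' <;> omega
    obtain ⟨Q⟩ : Nonempty (Sylow 5 G) := inferInstance
    exact ⟨(hQall Q).1, fun Q => (hQall Q).2⟩
  haveI : Fact (Nat.Prime 2) := ⟨Nat.prime_two⟩
  obtain ⟨t, htC, hto⟩ := Band6232.exists_of_dvd_centralizer (q := 2) Nat.prime_two hC
    (dvd_mul_of_dvd_right hu2 7)
  have h5 := (key t htC hto).2
  refine ⟨u, hu.resolve_left fun h => ?_, hN, hC, fun s hs hso => (key s hs hso).1, h5⟩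
  obtain ⟨y, hyC, hy⟩ := Band6232.exists_of_dvd_centralizer (q := 5) (by norm_num) hC
    (dvd_mul_of_dvd_right h 7)
  obtain ⟨Q, -, hcy⟩ := CfsgLib.MTwentyTwoUnique.FromOrder.exists_sylow_zpowers
    (show Nat.card G = 5 * 2040192 by rw [hT.card]) (by norm_num) hy
  have h7 := card_dvd_of_le (sylow_le_centralizer P hyC)
  rw [hP, hcy, (h5 Q).2] at h7
  norm_num at h7

end CfsgLib.MTwentyThreeUnique.FromOrder
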